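/-
Doubly transitive groups of degree `p ^ 2 + 1`: block systems of the point stabilisers.
-/
import Mathlib

set_option autoImplicit false

namespace CfsgLib.DoublyPrim

open MulAction

variable {G Ω : Type*} [Group G] [Finite G] [Fintype Ω] [MulAction G Ω] [FaithfulSMul G Ω] [DecidableEq Ω]

/-- An invariant system of blocks of size `p` for all point stabilisers. -/
structure Sys (G Ω : Type*) [Group G] [Fintype Ω] [MulAction G Ω] [DecidableEq Ω] (p : ℕ) where
  bl : Ω → Ω → Finset Ω
  prime : p.Prime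
  two : IsMultiplyPretransitive G Ω 2
  card : Fintype.card Ω = p ^ 2 + 1
  self_mem : ∀ x y, x ≠ y → y ∈ bl x y
  notMem : ∀ x y, x ≠ y → x ∉ bl x y
  eq : ∀ x y z, x ≠ y → z ∈ bl x y → bl x z = bl x y
  size : ∀ x y, x ≠ y → (bl x y).card = p
  equiv : ∀ (g : G) x y z, x ≠ y → z ∈ bl x y → g • z ∈ bl (g • x) (g • y)

/-- Lines of size `p + 1`, one through each pair, are impossible on `p ^ 2 + 1` points. -/
theorem no_lines {p : ℕ} (hp : p.Prime) (hn : Fintype.card Ω = p ^ 2 + 1) (L : Ω → Ω → Finset Ω)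
    (h1 : ∀ x y, x ≠ y → x ∈ L x y ∧ y ∈ L x y ∧ (L x y).card = p + 1)
    (hsym : ∀ x y, x ≠ y → L x y = L y x)
    (hext : ∀ x y z, x ≠ y → z ∈ L x y → z ≠ x → L x z = L x y) : False := by
  classical
  set S : Finset (Finset Ω) := (Finset.univ.offDiag : Finset (Ω × Ω)).image fun q => L q.1 q.2 with hS
  have hthrough : ∀ x, (S.filter (x ∈ ·)).card = p := by
    intro x
    have himg : S.filter (x ∈ ·) = (Finset.univ.erase x).image (L x) := by
      ext l
      simp only [hS, Finset.mem_filter, Finset.mem_image, Finset.mem_offDiag, Finset.mem_univ, true_and,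
        Finset.mem_erase, and_true]
      constructor
      · rintro ⟨⟨⟨c, d⟩, hcd, rfl⟩, hx⟩
        rcases eq_or_ne x c with rfl | hxc
        · exact ⟨d, Ne.symm hcd, rfl⟩
        · exact ⟨c, Ne.symm hxc, by rw [hsym x c hxc]; exact hext c d x hcd hx hxc⟩
      · rintro ⟨y, hy, rfl⟩
        exact ⟨⟨(x, y), Ne.symm hy, rfl⟩, (h1 x y (Ne.symm hy)).1⟩
    have hfib : ∀ l ∈ (Finset.univ.erase x).image (L x),
        ((Finset.univ.erase x).filter fun y => L x y = l).card = p := by
      intro l hl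
      obtain ⟨y, hy, rfl⟩ := Finset.mem_image.mp hl
      have hxy : x ≠ y := (Finset.ne_of_mem_erase hy).symm
      have : ((Finset.univ.erase x).filter fun z => L x z = L x y) = (L x y).erase x := by
        ext z
        simp only [Finset.mem_filter, Finset.mem_erase, Finset.mem_univ, and_true]
        constructor
        · rintro ⟨hz, he⟩; exact ⟨hz, he ▸ (h1 x z (Ne.symm hz)).2.1⟩
        · rintro ⟨hz, hm⟩; exact ⟨hz, hext x y z hxy hm hz⟩
      rw [this, Finset.card_erase_of_mem (h1 x y hxy).1, (h1 x y hxy).2.2, Nat.add_sub_cancel]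
    have h := Finset.card_eq_sum_card_image (L x) (Finset.univ.erase x)
    rw [Finset.sum_congr rfl hfib, Finset.sum_const, smul_eq_mul, Finset.card_erase_of_mem (Finset.mem_univ x),
      Finset.card_univ, hn, Nat.add_sub_cancel] at h
    rw [himg]
    exact Nat.eq_of_mul_eq_mul_right hp.pos (by rw [← h, pow_two])
  have hline : ∀ l ∈ S, l.card = p + 1 := by
    intro l hl
    obtain ⟨⟨c, d⟩, hcd, rfl⟩ := Finset.mem_image.mp hl
    exact (h1 c d (Finset.mem_offDiag.mp hcd).2.2).2.2
  have hdc := Finset.sum_card_bipartiteAbove_eq_sum_card_bipartiteBelow (fun (x : Ω) (l : Finset Ω) => x ∈ l)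
    (s := Finset.univ) (t := S)
  simp only [Finset.bipartiteAbove, Finset.bipartiteBelow, Finset.filter_univ_mem] at hdc
  rw [Finset.sum_congr rfl fun x _ => hthrough x, Finset.sum_congr rfl hline, Finset.sum_const, Finset.sum_const,
    smul_eq_mul, smul_eq_mul, Finset.card_univ, hn] at hdc
  have hco : (p + 1).Coprime p := by simp [Nat.coprime_self_add_left]
  have hd : p + 1 ∣ p ^ 2 + 1 := hco.dvd_of_dvd_mul_right (hdc ▸ Dvd.intro_left _ rfl)
  have h2 : (p + 1 : ℤ) ∣ 2 := by
    have : (p + 1 : ℤ) ∣ (p : ℤ) ^ 2 + 1 := by exact_mod_cast hd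
    obtain ⟨c, hc⟩ := this
    exact ⟨c - (p - 1), by linarith [show ((p : ℤ) + 1) * (p - 1) = p ^ 2 - 1 by ring]⟩
  have := Int.le_of_dvd (by norm_num) h2
  have := hp.two_le
  omega

namespace Sys

variable {p : ℕ} (S : Sys G Ω p)
include S

theorem exists_map {a b c d : Ω} (hab : a ≠ b) (hcd : c ≠ d) : ∃ g : G, g • a = c ∧ g • b = d :=
  (is_two_pretransitive_iff.mp S.two) hab hcd

theorem smul_ne {a b : Ω} (g : G) (h : a ≠ b) : g • a ≠ g • b := fun e => h (smul_left_cancel g e)

theorem smul_bl (g : G) {x y : Ω} (h : x ≠ y) : (S.bl x y).image (g • ·) = S.bl (g • x) (g • y) := by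
  refine Finset.eq_of_subset_of_card_le (fun z hz => ?_) ?_
  · obtain ⟨w, hw, rfl⟩ := Finset.mem_image.mp hz
    exact S.equiv g x y w h hw
  · rw [Finset.card_image_of_injective _ (MulAction.injective g), S.size x y h, S.size _ _ (S.smul_ne g h)]

theorem mem_symm {a y z : Ω} (h : a ≠ y) (hz : z ∈ S.bl a y) : y ∈ S.bl a z := by
  rw [S.eq a y z h hz]; exact S.self_mem a y h

theorem ne_of_mem {a y z : Ω} (h : a ≠ y) (hz : z ∈ S.bl a y) : a ≠ z := fun e => S.notMem a y h (e ▸ hz)

/-- The identity that would give a linear space is impossible. -/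
theorem not_sym {a b : Ω} (hab : a ≠ b) : insert a (S.bl a b) ≠ insert b (S.bl b a) := by
  intro h
  have key : ∀ x y, x ≠ y → insert x (S.bl x y) = insert y (S.bl y x) := by
    intro x y hxy
    obtain ⟨g, rfl, rfl⟩ := S.exists_map hab hxy
    have := congrArg (Finset.image (g • ·)) h
    rwa [Finset.image_insert, Finset.image_insert, S.smul_bl g hab, S.smul_bl g hab.symm] at this
  refine no_lines S.prime S.card (fun x y => insert x (S.bl x y)) (fun x y hxy => ⟨Finset.mem_insert_self _ _,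
    Finset.mem_insert_of_mem (S.self_mem x y hxy), ?_⟩) key (fun x y z hxy hz hzx => ?_)
  · rw [Finset.card_insert_of_notMem (S.notMem x y hxy), S.size x y hxy]
  · show insert x (S.bl x z) = insert x (S.bl x y)
    rw [S.eq x y z hxy ((Finset.mem_insert.mp hz).resolve_left hzx)]

/-- The elements fixing a point and all its blocks. -/
def Ker (a : Ω) : Subgroup G where
  carrier := {g | g • a = a ∧ ∀ y, a ≠ y → g • y ∈ S.bl a y}
  one_mem' := ⟨one_smul _ _, fun y hy => by rw [one_smul]; exact S.self_mem a y hy⟩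
  mul_mem' := by
    rintro g h ⟨hga, hg⟩ ⟨hha, hh⟩
    refine ⟨by rw [mul_smul, hha, hga], fun y hy => ?_⟩
    have h1 := hh y hy
    rw [mul_smul, ← S.eq a y (h • y) hy h1]
    exact hg _ (S.ne_of_mem hy h1)
  inv_mem' := by
    rintro g ⟨hga, hg⟩
    refine ⟨inv_smul_eq_iff.mpr hga.symm, fun y hy => ?_⟩
    have hy' : a ≠ g⁻¹ • y := fun e => hy (by rw [← hga, e, smul_inv_smul])
    have := hg _ hy'
    rw [smul_inv_smul] at this
    exact S.mem_symm hy' this

theorem mem_Ker {a : Ω} {g : G} : g ∈ S.Ker a ↔ g • a = a ∧ ∀ y, a ≠ y → g • y ∈ S.bl a y := Iff.rfl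

theorem Ker_conj (g : G) {a : Ω} {k : G} (hk : k ∈ S.Ker a) : g * k * g⁻¹ ∈ S.Ker (g • a) := by
  obtain ⟨hka, hk⟩ := S.mem_Ker.mp hk
  refine S.mem_Ker.mpr ⟨by rw [mul_smul, mul_smul, inv_smul_smul, hka], fun y hy => ?_⟩
  have hy' : a ≠ g⁻¹ • y := fun e => hy (by rw [e, smul_inv_smul])
  have := S.equiv g a (g⁻¹ • y) (k • g⁻¹ • y) hy' (hk _ hy')
  rwa [smul_inv_smul, ← mul_smul, ← mul_smul] at this

/-- The Sylow subgroup of a point stabiliser is regular on the other points. -/
theorem exists_regular {a b : Ω} (hab : a ≠ b) :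
    ∃ P : Subgroup G, P ≤ stabilizer G a ∧ Nat.card ↥P = p ^ 2 ∧ (∀ x ∈ P, ∀ y ∈ P, x * y = y * x) ∧
      (∀ y, a ≠ y → ∃ g ∈ P, g • b = y) ∧ (∀ g ∈ P, g • b = b → g = 1) ∧
      ¬ p ∣ Nat.card ↥(stabilizer G a ⊓ stabilizer G b) := by
  haveI hp := Fact.mk S.prime
  classical
  haveI : MulAction.IsPretransitive G Ω := by
    haveI := S.two; exact isPretransitive_of_is_two_pretransitive
  set Ga := stabilizer G a
  set Gab := stabilizer G a ⊓ stabilizer G b
  -- the orbit of the second point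
  have horb : MulAction.orbit ↥Ga b = {y | a ≠ y} := by
    ext y
    constructor
    · rintro ⟨g, rfl⟩ e
      exact hab (smul_left_cancel (g : G) ((show (g : G) • a = a from g.2).trans e))
    · intro hy
      obtain ⟨g, hga, hgb⟩ := S.exists_map hab hy
      exact ⟨⟨g, hga⟩, hgb⟩
  have hcardC : Nat.card ↥{y : Ω | a ≠ y} = p ^ 2 := by
    rw [Nat.card_coe_set_eq, show {y : Ω | a ≠ y} = {a}ᶜ by ext y; simp [eq_comm], Set.ncard_compl,
      Nat.card_eq_fintype_card, S.card, Set.ncard_singleton, Nat.add_sub_cancel]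
  have hGa : Nat.card ↥Ga = p ^ 2 * Nat.card ↥Gab := by
    have h := (stabilizer ↥Ga b).card_mul_index
    rw [index_stabilizer, horb] at h
    rw [← h, ← Nat.card_coe_set_eq, hcardC, mul_comm]
    congr 1
    rw [show stabilizer ↥Ga b = (Gab).subgroupOf Ga by
      ext g; simp [Gab, Ga, Subgroup.mem_subgroupOf, Subgroup.mem_inf]; rfl]
    exact Nat.card_congr (Subgroup.subgroupOfEquivOfLe inf_le_left).toEquiv
  obtain ⟨P₀⟩ : Nonempty (Sylow p ↥Ga) := inferInstance
  set P := (P₀ : Subgroup ↥Ga).map Ga.subtype with hP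
  have hPle : P ≤ Ga := by rintro _ ⟨x, -, rfl⟩; exact x.2
  have hP2 : IsPGroup p ↥P := P₀.2.map _
  have hPc : Nat.card ↥P = Nat.card ↥(P₀ : Subgroup ↥Ga) := Subgroup.card_map_of_injective Ga.subtype_injective
  set Pb := stabilizer ↥P b
  have hPbG : Nat.card ↥Pb ∣ Nat.card ↥Gab := by
    refine Subgroup.card_dvd_of_injective
      (MonoidHom.codRestrict (P.subtype.comp Pb.subtype) Gab fun x => ⟨hPle x.1.2, x.2⟩) fun x y h => ?_
    exact Subtype.ext (Subtype.ext (congrArg (fun z : ↥Gab => (z : G)) h))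
  have hsub : MulAction.orbit ↥P b ⊆ {y | a ≠ y} := by
    rintro _ ⟨g, rfl⟩ e
    exact hab (smul_left_cancel (g : G) ((show (g : G) • a = a from hPle g.2).trans e))
  have hfull : MulAction.orbit ↥P b = {y | a ≠ y} := by
    refine Set.eq_of_subset_of_ncard_le hsub ?_ (Set.toFinite _)
    rw [← Nat.card_coe_set_eq {y | a ≠ y}, hcardC]
    have hi : ¬ p ∣ (P₀ : Subgroup ↥Ga).index := P₀.not_dvd_index
    have h1 := (P₀ : Subgroup ↥Ga).card_mul_index
    have h2 := Pb.card_mul_index
    rw [index_stabilizer, hPc] at h2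
    obtain ⟨c, hc⟩ := hPbG
    rw [← h2, hGa, hc] at h1
    have h3 : p ^ 2 * c = (MulAction.orbit ↥P b).ncard * (P₀ : Subgroup ↥Ga).index := by
      refine Nat.eq_of_mul_eq_mul_left (Nat.card_pos (α := ↥Pb)) ?_
      linarith
    have h4 : p ^ 2 ∣ (MulAction.orbit ↥P b).ncard :=
      ((Nat.Coprime.pow_left 2 (hp.out.coprime_iff_not_dvd.mpr hi))).dvd_of_dvd_mul_right (h3 ▸ Dvd.intro c rfl)
    exact Nat.le_of_dvd ((Set.ncard_pos (Set.toFinite _)).mpr ⟨b, mem_orbit_self b⟩) h4
  have hcard : Nat.card ↥Pb * p ^ 2 = Nat.card ↥P := by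
    rw [← Pb.card_mul_index, index_stabilizer, hfull, ← Nat.card_coe_set_eq, hcardC]
  have hPb : Pb = ⊥ := by
    by_contra hne
    apply S.not_sym hab
    set N := Subgroup.normalizer (Pb : Set ↥P)
    have hlt : Pb < N := by
      haveI := hP2.isNilpotent
      refine Group.normalizerCondition_of_isNilpotent Pb (lt_top_iff_ne_top.mpr fun htop => ?_)
      rw [htop, Subgroup.card_top] at hcard
      have := Nat.eq_of_mul_eq_mul_left (Nat.card_pos (α := ↥P)) (hcard.trans (mul_one _).symm)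
      have := Nat.one_lt_pow two_ne_zero hp.out.one_lt
      omega
    -- fixed points
    set F : Set Ω := {y | a ≠ y ∧ ∀ x ∈ Pb, x • y = y} with hF
    have hFN : F = MulAction.orbit ↥N b := by
      ext y
      constructor
      · rintro ⟨hy, hfix⟩
        obtain ⟨g, hg⟩ : y ∈ MulAction.orbit ↥P b := hfull ▸ hy
        refine ⟨⟨g, ?_⟩, hg⟩
        have hsub' : ∀ x ∈ Pb, g⁻¹ * x * g ∈ Pb := fun x hx => by
          show (g⁻¹ * x * g) • b = b
          rw [mul_smul, mul_smul, show g • b = y from hg, hfix x hx, inv_smul_eq_iff]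
          exact hg.symm
        refine Subgroup.mem_normalizer_iff''.mpr fun x => ⟨hsub' x, fun hx => ?_⟩
        obtain ⟨⟨z, hz⟩, hzx⟩ := Finite.surjective_of_injective (f := fun z : ↥Pb => (⟨g⁻¹ * (z : ↥P) * g, hsub' z z.2⟩ : ↥Pb))
          (fun u v huv => Subtype.ext (mul_left_cancel (mul_right_cancel (congrArg Subtype.val huv)))) ⟨_, hx⟩
        have := mul_left_cancel (mul_right_cancel (congrArg Subtype.val hzx))
        exact this ▸ hz
      · rintro ⟨g, rfl⟩
        refine ⟨hsub ⟨(g : ↥P), rfl⟩, fun x hx => ?_⟩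
        show x • (g : ↥P) • b = (g : ↥P) • b
        have h1 : (g : ↥P)⁻¹ * x * (g : ↥P) ∈ Pb := by
          have h2 := (Subgroup.mem_normalizer_iff.mp (N.inv_mem g.2) x).mp hx
          simpa using h2
        have h3 : ((g : ↥P)⁻¹ * x * (g : ↥P)) • b = b := h1
        rw [mul_smul, mul_smul, inv_smul_eq_iff] at h3
        exact h3
    have hFlt : F.ncard < p ^ 2 := by
      rw [← hcardC, Nat.card_coe_set_eq]
      refine Set.ncard_lt_ncard ⟨fun y hy => hy.1, fun hle => hne ?_⟩ (Set.toFinite _)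
      rw [Subgroup.eq_bot_iff_forall]
      intro x hx
      refine Subtype.ext (eq_of_smul_eq_smul (α := Ω) fun y => ?_)
      rw [OneMemClass.coe_one, one_smul]
      rcases eq_or_ne a y with rfl | hy
      · exact hPle x.2
      · exact (hle hy).2 x hx
    have hFp : F.ncard = p := by
      obtain ⟨m, hm⟩ := (hP2.to_subgroup N).card_orbit b
      rw [hFN, ← Nat.card_coe_set_eq, hm]
      have h1 : 1 < F.ncard := by
        rw [hFN, ← index_stabilizer]
        refine Nat.lt_of_le_of_ne (Nat.one_le_iff_ne_zero.mpr Subgroup.index_ne_zero_of_finite) (fun h => ?_)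
        have htop := Subgroup.index_eq_one.mp h.symm
        exact hlt.not_ge fun g hg => (show (⟨g, hg⟩ : ↥N) ∈ stabilizer ↥N b from htop ▸ Subgroup.mem_top _)
      rw [hFN, ← Nat.card_coe_set_eq, hm] at h1 hFlt
      rcases m with _ | _ | m
      · simp at h1
      · simp
      · exact absurd hFlt (not_lt.mpr (Nat.pow_le_pow_right hp.out.pos (by omega)))
    have hblock : ∀ {c d : Ω}, c ≠ d → (∀ x ∈ Pb, x • c = c ∧ x • d = d) → ∀ y ∈ S.bl c d, ∀ x ∈ Pb, x • y = y := by
      intro c d hcd hfix y hy x hx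
      rcases eq_or_ne y d with rfl | hyd
      · exact (hfix x hx).2
      set o := MulAction.orbit ↥Pb y
      obtain ⟨m, hm⟩ := (hP2.to_subgroup Pb).card_orbit y
      have ho : o ⊆ ((S.bl c d).erase d : Set Ω) := by
        rintro _ ⟨g, rfl⟩
        show (g : ↥P) • y ∈ (((S.bl c d).erase d : Finset Ω) : Set Ω)
        rw [Finset.mem_coe, Finset.mem_erase]
        obtain ⟨e1, e2⟩ := hfix g g.2
        refine ⟨fun e => hyd (smul_left_cancel (g : ↥P) (e.trans e2.symm)), ?_⟩
        have := S.equiv ((g : ↥P) : G) c d y hcd hy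
        rwa [show ((g : ↥P) : G) • c = c from e1, show ((g : ↥P) : G) • d = d from e2] at this
      have hle := Set.ncard_le_ncard ho (Set.toFinite _)
      rw [Set.ncard_coe_finset, Finset.card_erase_of_mem (S.self_mem c d hcd), S.size c d hcd,
        ← Nat.card_coe_set_eq, hm] at hle
      have hm0 : m = 0 := by
        by_contra h0
        have := Nat.le_self_pow h0 p
        have := hp.out.two_le
        omega
      rw [hm0, pow_zero] at hm
      haveI := (Nat.card_eq_one_iff_unique.mp hm).1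
      exact congrArg Subtype.val (Subsingleton.elim (⟨x • y, ⟨⟨x, hx⟩, rfl⟩⟩ : o) ⟨y, mem_orbit_self y⟩)
    have hfa : ∀ x ∈ Pb, x • a = a := fun x _ => hPle x.2
    have hB : ((S.bl a b : Finset Ω) : Set Ω) = F := by
      refine Set.eq_of_subset_of_ncard_le (fun y hy => ⟨S.ne_of_mem hab hy, hblock hab (fun x hx => ⟨hfa x hx, hx⟩) y hy⟩)
        ?_ (Set.toFinite _)
      rw [hFp, Set.ncard_coe_finset, S.size a b hab]
    refine (Finset.eq_of_subset_of_card_le (fun y hy => ?_) ?_).symm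
    · rcases Finset.mem_insert.mp hy with rfl | hy
      · exact Finset.mem_insert_of_mem (S.self_mem a y hab)
      rcases eq_or_ne a y with rfl | hay
      · exact Finset.mem_insert_self _ _
      refine Finset.mem_insert_of_mem ?_
      rw [← Finset.mem_coe, hB]
      exact ⟨hay, hblock hab.symm (fun x hx => ⟨hx, hfa x hx⟩) y hy⟩
    · rw [Finset.card_insert_of_notMem (S.notMem a b hab), Finset.card_insert_of_notMem (S.notMem b a hab.symm),
        S.size a b hab, S.size b a hab.symm]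
  rw [hPb, Subgroup.card_bot, one_mul] at hcard
  refine ⟨P, hPle, hcard.symm, ?_, fun y hy => ?_, fun g hg hgb => ?_, ?_⟩
  · intro x hx y hy
    exact congrArg Subtype.val (IsPGroup.commutative_of_card_eq_prime_sq (p := p) hcard.symm
      (⟨x, hx⟩ : ↥P) ⟨y, hy⟩)
  · obtain ⟨g, hg⟩ : y ∈ MulAction.orbit ↥P b := hfull ▸ hy
    exact ⟨g, g.2, hg⟩
  · have h : (⟨g, hg⟩ : ↥P) ∈ Pb := hgb
    rw [hPb, Subgroup.mem_bot] at h
    exact congrArg Subtype.val h
  · intro hd
    have h1 := (P₀ : Subgroup ↥Ga).card_mul_index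
    rw [← hPc, ← hcard, hGa] at h1
    exact P₀.not_dvd_index (Nat.eq_of_mul_eq_mul_left (pow_pos hp.out.pos 2) h1 ▸ hd)

end Sys

end CfsgLib.DoublyPrim
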