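/-
Doubly transitive groups of degree `p ^ 2 + 1`: the element rotating all blocks of a point.
-/
import Cfsg.Agent.Lib.DoublyPrimitive.Sys
import Cfsg.Agent.Lib.Perm.PrimeDegree

set_option autoImplicit false

namespace CfsgLib.DoublyPrim

open MulAction

/-- Powers indexed by residues. -/
def zp {G : Type*} [Group G] {p : ℕ} (k : G) (i : ZMod p) : G := k ^ i.val

theorem zp_zero {G : Type*} [Group G] {p : ℕ} (k : G) : zp k (0 : ZMod p) = 1 := by simp [zp]

theorem zp_add {G : Type*} [Group G] {p : ℕ} [NeZero p] {k : G} (hk : k ^ p = 1) (i j : ZMod p) :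
    zp k (i + j) = zp k i * zp k j := by
  rw [zp, zp, zp, ← pow_add, ZMod.val_add, ← pow_eq_pow_mod _ hk]

theorem zp_one {G : Type*} [Group G] {p : ℕ} [Fact p.Prime] (k : G) : zp k (1 : ZMod p) = k := by
  rw [zp, ZMod.val_one, pow_one]

theorem zp_natCast {G : Type*} [Group G] {p : ℕ} [NeZero p] {k : G} (hk : k ^ p = 1) (n : ℕ) :
    zp k (n : ZMod p) = k ^ n := by
  rw [zp, ZMod.val_natCast, ← pow_eq_pow_mod _ hk]

theorem zp_neg {G : Type*} [Group G] {p : ℕ} [NeZero p] {k : G} (hk : k ^ p = 1) (i : ZMod p) :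
    zp k (-i) = (zp k i)⁻¹ := by
  rw [eq_inv_iff_mul_eq_one, ← zp_add hk, neg_add_cancel, zp_zero]

theorem zp_mem {G : Type*} [Group G] {p : ℕ} (k : G) (H : Subgroup G) (hk : k ∈ H) (i : ZMod p) : zp k i ∈ H :=
  H.pow_mem hk _

theorem zp_conj {G : Type*} [Group G] {p : ℕ} [NeZero p] {k g : G} (hk : k ^ p = 1) {μ : ZMod p}
    (h : g * k * g⁻¹ = zp k μ) (i : ZMod p) : g * zp k i * g⁻¹ = zp k (μ * i) := by
  have key : ∀ n : ℕ, g * k ^ n * g⁻¹ = zp k (μ * (n : ZMod p)) := by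
    intro n
    rw [← conj_pow, h, zp, ← pow_mul, ← zp_natCast hk, Nat.cast_mul, ZMod.natCast_zmod_val]
  have := key i.val
  rwa [ZMod.natCast_zmod_val] at this

theorem mem_zpowers_zp {G : Type*} [Group G] {p : ℕ} [NeZero p] {k g : G} (hk : k ^ p = 1)
    (h : g ∈ Subgroup.zpowers k) : ∃ i : ZMod p, g = zp k i := by
  have hfin : IsOfFinOrder k := isOfFinOrder_iff_pow_eq_one.mpr ⟨p, Nat.pos_of_ne_zero (NeZero.ne p), hk⟩
  obtain ⟨n, rfl⟩ := hfin.mem_powers_iff_mem_zpowers.mpr h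
  exact ⟨n, (zp_natCast hk n).symm⟩

namespace Sys

variable {G Ω : Type*} [Group G] [Finite G] [Fintype Ω] [MulAction G Ω] [FaithfulSMul G Ω] [DecidableEq Ω]
  {p : ℕ} [hp : Fact p.Prime] (S : Sys G Ω p)

/-- An element of order `p` rotating every block of `a`. -/
structure Shift (a : Ω) (k : G) : Prop where
  mem : k ∈ S.Ker a
  pow_p : k ^ p = 1
  coord : ∀ y z, a ≠ y → z ∈ S.bl a y → ∃ i : ZMod p, zp k i • y = z
  free : ∀ y, a ≠ y → ∀ i : ZMod p, zp k i • y = y → i = 0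

/-- An abelian regular subgroup with a rotation inside. -/
structure Data (a : Ω) where
  P : Subgroup G
  k : G
  le : P ≤ stabilizer G a
  card : Nat.card ↥P = p ^ 2
  comm : ∀ x ∈ P, ∀ y ∈ P, x * y = y * x
  memk : k ∈ P
  shift : S.Shift a k
  reg : ∀ y z, a ≠ y → a ≠ z → ∃ g ∈ P, g • y = z

include S in
omit hp in
theorem not_dvd_stab {a y : Ω} (h : a ≠ y) : ¬ p ∣ Nat.card ↥(stabilizer G a ⊓ stabilizer G y) := by
  obtain ⟨_, _, _, _, _, _, h'⟩ := S.exists_regular h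
  exact h'

theorem nonempty_data (a : Ω) : Nonempty (S.Data a) := by
  classical
  obtain ⟨b, hab⟩ : ∃ b, a ≠ b := by
    by_contra h
    push Not at h
    have h1 : Fintype.card Ω ≤ 1 := Fintype.card_le_one_iff.mpr fun x y => (h x).symm.trans (h y)
    rw [S.card] at h1
    have := Nat.one_lt_pow two_ne_zero hp.out.one_lt
    omega
  obtain ⟨P, hle, hcard, hcomm, htr, hfree, -⟩ := S.exists_regular hab
  have hmap : ∀ g : G, g ∈ P → g • b ∈ S.bl a b → g ∈ S.Ker a := by
    intro g hg hgb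
    refine S.mem_Ker.mpr ⟨hle hg, fun y hy => ?_⟩
    obtain ⟨h, hh, rfl⟩ := htr y hy
    rw [← mul_smul, hcomm g hg h hh, mul_smul]
    have := S.equiv h a b (g • b) hab hgb
    rwa [show h • a = a from hle hh] at this
  set Q := P ⊓ S.Ker a
  have hQ : Nat.card ↥Q = p := by
    let f : ↥Q → ↥(S.bl a b) := fun g => ⟨(g : G) • b, (S.mem_Ker.mp g.2.2).2 b hab⟩
    have hf : Function.Bijective f := by
      refine ⟨fun g h e => ?_, fun z => ?_⟩
      · have e' : (g : G) • b = (h : G) • b := congrArg Subtype.val e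
        have := hfree ((h : G)⁻¹ * g) (P.mul_mem (P.inv_mem h.2.1) g.2.1) (by rw [mul_smul, e', inv_smul_smul])
        exact Subtype.ext (inv_mul_eq_one.mp this).symm
      · obtain ⟨g, hg, hgz⟩ := htr z (S.ne_of_mem hab z.2)
        exact ⟨⟨g, hg, hmap g hg (hgz ▸ z.2)⟩, Subtype.ext hgz⟩
    rw [Nat.card_eq_of_bijective f hf, Nat.card_eq_fintype_card, Fintype.card_coe, S.size a b hab]
  haveI : IsCyclic ↥Q := isCyclic_of_prime_card hQ
  obtain ⟨⟨k, hkQ⟩, hk⟩ := IsCyclic.exists_ofOrder_eq_natCard (α := ↥Q)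
  rw [hQ, Subgroup.orderOf_mk] at hk
  have hkp : k ^ p = 1 := hk ▸ pow_orderOf_eq_one k
  have hfree' : ∀ y, a ≠ y → ∀ i : ZMod p, zp k i • y = y → i = 0 := by
    intro y hy i hi
    obtain ⟨h, hh, rfl⟩ := htr y hy
    have hz : zp k i ∈ P := zp_mem k P hkQ.1 i
    rw [← mul_smul, hcomm _ hz h hh, mul_smul] at hi
    have h1 := hfree _ hz (smul_left_cancel h hi)
    have h2 : orderOf k ∣ i.val := orderOf_dvd_of_pow_eq_one h1
    rw [hk] at h2
    exact (ZMod.val_eq_zero i).mp (Nat.eq_zero_of_dvd_of_lt h2 (ZMod.val_lt i))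
  refine ⟨⟨P, k, hle, hcard, hcomm, hkQ.1, ⟨hkQ.2, hkp, fun y z hy hz => ?_, hfree'⟩, fun y z hy hz => ?_⟩⟩
  · have himg : (Finset.univ : Finset (ZMod p)).image (fun i => zp k i • y) = S.bl a y := by
      refine Finset.eq_of_subset_of_card_le (fun w hw => ?_) ?_
      · obtain ⟨i, -, rfl⟩ := Finset.mem_image.mp hw
        exact (S.mem_Ker.mp (zp_mem k _ hkQ.2 i)).2 y hy
      · rw [Finset.card_image_of_injective, Finset.card_univ, ZMod.card, S.size a y hy]
        intro i j e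
        have h0 : zp k (-j + i) • y = y := by
          rw [zp_add hkp, mul_smul, show zp k i • y = zp k j • y from e, zp_neg hkp, inv_smul_smul]
        exact (neg_add_eq_zero.mp (hfree' y hy _ h0)).symm
    rw [← himg, Finset.mem_image] at hz
    obtain ⟨i, -, hi⟩ := hz
    exact ⟨i, hi⟩
  · obtain ⟨g, hg, rfl⟩ := htr y hy
    obtain ⟨h, hh, rfl⟩ := htr z hz
    exact ⟨h * g⁻¹, P.mul_mem hh (P.inv_mem hg), by rw [mul_smul, inv_smul_smul]⟩

variable {S} {a : Ω} {k : G}

theorem Shift.fix (hk : S.Shift a k) : k • a = a := (S.mem_Ker.mp hk.mem).1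

theorem Shift.mem_bl (hk : S.Shift a k) {y : Ω} (hy : a ≠ y) (i : ZMod p) : zp k i • y ∈ S.bl a y :=
  (S.mem_Ker.mp (zp_mem k _ hk.mem i)).2 y hy

theorem Shift.inj (hk : S.Shift a k) {y : Ω} (hy : a ≠ y) {i j : ZMod p} (h : zp k i • y = zp k j • y) : i = j := by
  have h0 : zp k (-j + i) • y = y := by rw [zp_add hk.pow_p, mul_smul, h, zp_neg hk.pow_p, inv_smul_smul]
  exact (neg_add_eq_zero.mp (hk.free y hy _ h0)).symm

theorem Shift.ne_one (hk : S.Shift a k) {b : Ω} (hab : a ≠ b) : k ≠ 1 := fun h => by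
  have : (1 : ZMod p) = 0 := hk.free b hab 1 (by rw [zp_one, h, one_smul])
  exact one_ne_zero this

/-- A subgroup of the kernel normalised by the rotation, of order prime to `p`, is trivial. -/
theorem Shift.eq_one_of_normalized (hk : S.Shift a k) (M : Subgroup G) (hM : M ≤ S.Ker a)
    (hn : ∀ g ∈ M, k * g * k⁻¹ ∈ M) (hcop : ¬ p ∣ Nat.card ↥M) {g : G} (hg : g ∈ M) : g = 1 := by
  classical
  refine eq_of_smul_eq_smul (α := Ω) fun y => ?_
  rw [one_smul]
  rcases eq_or_ne a y with rfl | hy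
  · exact (S.mem_Ker.mp (hM hg)).1
  by_contra hne
  obtain ⟨j, hj⟩ := hk.coord y _ hy ((S.mem_Ker.mp (hM hg)).2 y hy)
  have hj0 : j ≠ 0 := fun e => hne (by rw [← hj, e, zp_zero, one_smul])
  have hnp : ∀ n : ℕ, ∀ u ∈ M, k ^ n * u * (k ^ n)⁻¹ ∈ M := by
    intro n
    induction n with
    | zero => intro u hu; simpa using hu
    | succ n ih =>
      intro u hu
      have := hn _ (ih u hu)
      rw [pow_succ']
      simpa [mul_assoc] using this
  have hin : ∀ n : ℕ, zp k ((n : ZMod p) * j) • y ∈ MulAction.orbit ↥M y := by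
    intro n
    induction n with
    | zero => simp [zp_zero, mem_orbit_self]
    | succ n ih =>
      obtain ⟨u, hu⟩ := ih
      set q := zp k ((n : ZMod p) * j) with hq
      refine ⟨⟨q * g * q⁻¹, hnp _ g hg⟩ * u, ?_⟩
      show ((q * g * q⁻¹) * (u : G)) • y = _
      rw [mul_smul, show (u : G) • y = q • y from hu, mul_smul, inv_smul_smul, mul_smul, ← hj, hq, ← mul_smul,
        ← zp_add hk.pow_p, Nat.cast_succ, add_mul, one_mul]
  have horb : MulAction.orbit ↥M y = (S.bl a y : Set Ω) := by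
    ext z
    constructor
    · rintro ⟨u, rfl⟩
      exact Finset.mem_coe.mpr ((S.mem_Ker.mp (hM u.2)).2 y hy)
    · intro hz
      obtain ⟨i, rfl⟩ := hk.coord y z hy (Finset.mem_coe.mp hz)
      have := hin (i * j⁻¹).val
      rwa [ZMod.natCast_zmod_val, inv_mul_cancel_right₀ hj0] at this
  have h1 : (MulAction.orbit ↥M y).ncard = p := by rw [horb, Set.ncard_coe_finset, S.size a y hy]
  rw [← index_stabilizer] at h1
  exact hcop (h1 ▸ Subgroup.index_dvd_card _)

theorem Shift.eq_one_of_commute (hk : S.Shift a k) {g : G} (hg : g ∈ S.Ker a) (hc : g * k = k * g) {y : Ω}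
    (hy : a ≠ y) (hgy : g • y = y) : g = 1 := by
  refine hk.eq_one_of_normalized (S.Ker a ⊓ stabilizer G y ⊓ Subgroup.centralizer {k}) (inf_le_left.trans inf_le_left)
    (fun u hu => ?_) (fun hd => S.not_dvd_stab hy (hd.trans (Subgroup.card_dvd_of_le
      fun u hu => ⟨(S.mem_Ker.mp hu.1.1).1, hu.1.2⟩))) ⟨⟨hg, hgy⟩, ?_⟩
  · have : k * u = u * k := Subgroup.mem_centralizer_iff.mp hu.2 k rfl
    rwa [this, mul_inv_cancel_right]
  · exact Subgroup.mem_centralizer_iff.mpr fun x hx => by rw [Set.mem_singleton_iff.mp hx, hc]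

theorem Shift.eq_one_of_fix_block (hk : S.Shift a k) {g : G} (hg : g ∈ S.Ker a) {y : Ω} (hy : a ≠ y)
    (hgy : ∀ z ∈ S.bl a y, g • z = z) : g = 1 := by
  refine hk.eq_one_of_normalized (S.Ker a ⊓ fixingSubgroup G (S.bl a y : Set Ω)) inf_le_left (fun u hu => ?_)
    (fun hd => S.not_dvd_stab hy (hd.trans (Subgroup.card_dvd_of_le fun u hu => ⟨(S.mem_Ker.mp hu.1).1,
      (mem_fixingSubgroup_iff G).mp hu.2 y (Finset.mem_coe.mpr (S.self_mem a y hy))⟩)))
    ⟨hg, (mem_fixingSubgroup_iff G).mpr fun z hz => hgy z hz⟩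
  refine ⟨(S.Ker a).mul_mem ((S.Ker a).mul_mem hk.mem hu.1) ((S.Ker a).inv_mem hk.mem),
    (mem_fixingSubgroup_iff G).mpr fun z hz => ?_⟩
  have h1 : k⁻¹ • z ∈ S.bl a y := by
    have := (S.mem_Ker.mp ((S.Ker a).inv_mem hk.mem)).2 z (S.ne_of_mem hy hz)
    rwa [S.eq a y z hy hz] at this
  rw [mul_smul, mul_smul, (mem_fixingSubgroup_iff G).mp hu.2 _ h1, smul_inv_smul]

variable (S)

theorem bl_smul {g : G} (hg : g • a = a) {y : Ω} (hy : a ≠ y) : (S.bl a y).image (g • ·) = S.bl a (g • y) := by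
  rw [S.smul_bl g hy, hg]

theorem mem_bl_smul {g : G} (hg : g • a = a) {y z : Ω} (hy : a ≠ y) (hz : z ∈ S.bl a y) :
    g • z ∈ S.bl a (g • y) := by
  rw [← S.bl_smul hg hy]; exact Finset.mem_image_of_mem _ hz

omit hp in
theorem smul_ne_fixed {g : G} (hg : g • a = a) {y : Ω} (hy : a ≠ y) : a ≠ g • y := fun e =>
  hy (smul_left_cancel g (hg.trans e))

theorem conj_mem_Ker {g u : G} (hg : g • a = a) (hu : u ∈ S.Ker a) : g * u * g⁻¹ ∈ S.Ker a := by
  have := S.Ker_conj g hu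
  rwa [hg] at this

theorem card_blocks (a : Ω) : ((Finset.univ.erase a).image (S.bl a)).card = p := by
  classical
  have hfib : ∀ l ∈ (Finset.univ.erase a).image (S.bl a),
      ((Finset.univ.erase a).filter fun y => S.bl a y = l).card = p := by
    intro l hl
    obtain ⟨y, hy, rfl⟩ := Finset.mem_image.mp hl
    have hay : a ≠ y := (Finset.ne_of_mem_erase hy).symm
    rw [show ((Finset.univ.erase a).filter fun z => S.bl a z = S.bl a y) = S.bl a y by
      ext z
      simp only [Finset.mem_filter, Finset.mem_erase, Finset.mem_univ, and_true]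
      exact ⟨fun ⟨hz, e⟩ => e ▸ S.self_mem a z (Ne.symm hz), fun hz => ⟨(S.ne_of_mem hay hz).symm, S.eq a y z hay hz⟩⟩,
      S.size a y hay]
  have h := Finset.card_eq_sum_card_image (S.bl a) (Finset.univ.erase a)
  rw [Finset.sum_congr rfl hfib, Finset.sum_const, smul_eq_mul, Finset.card_erase_of_mem (Finset.mem_univ a),
    Finset.card_univ, S.card, Nat.add_sub_cancel] at h
  exact Nat.eq_of_mul_eq_mul_right hp.out.pos (by rw [← h, pow_two])

/-- The action on the blocks of a point is semiregular off one block, or doubly transitive. -/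
theorem dichotomy (a : Ω) :
    (∀ g : G, g • a = a → ∀ y z, a ≠ y → a ≠ z → z ∉ S.bl a y → g • y ∈ S.bl a y → g • z ∈ S.bl a z → g ∈ S.Ker a) ∨
    (∀ y z w, a ≠ y → a ≠ z → a ≠ w → z ∉ S.bl a y → w ∉ S.bl a y → ∃ g : G, g • a = a ∧ g • y = y ∧ g • z ∈ S.bl a w) := by
  classical
  obtain ⟨D⟩ := S.nonempty_data a
  let Q : Type _ := ↥((Finset.univ.erase a).image (S.bl a))
  have hmem : ∀ y, a ≠ y → S.bl a y ∈ (Finset.univ.erase a).image (S.bl a) := fun y hy =>
    Finset.mem_image_of_mem _ (Finset.mem_erase.mpr ⟨Ne.symm hy, Finset.mem_univ _⟩)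
  letI : MulAction ↥(stabilizer G a) Q :=
    { smul := fun g s => ⟨s.1.image ((g : G) • ·), by
        obtain ⟨y, hy, e⟩ := Finset.mem_image.mp s.2
        have hay : a ≠ y := (Finset.ne_of_mem_erase hy).symm
        rw [← e, S.bl_smul g.2 hay]
        exact hmem _ (smul_ne_fixed g.2 hay)⟩
      one_smul := fun s => Subtype.ext (by show s.1.image ((1 : G) • ·) = s.1; simp)
      mul_smul := fun g h s => Subtype.ext (by
        show s.1.image (((g : G) * h) • ·) = (s.1.image ((h : G) • ·)).image ((g : G) • ·)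
        rw [Finset.image_image]
        exact Finset.image_congr fun x _ => mul_smul _ _ x) }
  have hval : ∀ (g : ↥(stabilizer G a)) (y : Ω) (hy : a ≠ y),
      ((g • (⟨S.bl a y, hmem y hy⟩ : Q) : Q)).1 = S.bl a ((g : G) • y) := fun g y hy => S.bl_smul g.2 hy
  have hsurj : ∀ s : Q, ∃ y, ∃ hy : a ≠ y, s = ⟨S.bl a y, hmem y hy⟩ := fun s => by
    obtain ⟨y, hy, e⟩ := Finset.mem_image.mp s.2
    exact ⟨y, (Finset.ne_of_mem_erase hy).symm, Subtype.ext e.symm⟩
  haveI : MulAction.IsPretransitive ↥(stabilizer G a) Q := ⟨fun s t => by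
    obtain ⟨y, hy, rfl⟩ := hsurj s
    obtain ⟨z, hz, rfl⟩ := hsurj t
    obtain ⟨g, hg, rfl⟩ := D.reg y z hy hz
    exact ⟨⟨g, D.le hg⟩, Subtype.ext (hval _ y hy)⟩⟩
  by_cases h2 : MulAction.IsMultiplyPretransitive ↥(stabilizer G a) Q 2
  · refine Or.inr fun y z w hy hz hw hzy hwy => ?_
    have hzne : (⟨S.bl a y, hmem y hy⟩ : Q) ≠ ⟨S.bl a z, hmem z hz⟩ := fun e => hzy
      (by rw [show S.bl a y = S.bl a z from congrArg Subtype.val e]; exact S.self_mem a z hz)
    have hwne : (⟨S.bl a y, hmem y hy⟩ : Q) ≠ ⟨S.bl a w, hmem w hw⟩ := fun e => hwy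
      (by rw [show S.bl a y = S.bl a w from congrArg Subtype.val e]; exact S.self_mem a w hw)
    obtain ⟨g, hgy, hgz⟩ := (is_two_pretransitive_iff.mp h2) hzne hwne
    have hgy' := congrArg Subtype.val hgy; rw [hval _ y hy] at hgy'
    have hgz' := congrArg Subtype.val hgz; rw [hval _ z hz] at hgz'
    obtain ⟨i, hi⟩ := D.shift.coord ((g : G) • y) y (smul_ne_fixed g.2 hy) (hgy'.symm ▸ S.self_mem a y hy)
    refine ⟨zp D.k i * g, ?_, ?_, ?_⟩
    · rw [mul_smul, show (g : G) • a = a from g.2]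
      exact (S.mem_Ker.mp (zp_mem _ _ D.shift.mem i)).1
    · rw [mul_smul]; exact hi
    · rw [mul_smul]
      have := D.shift.mem_bl (smul_ne_fixed g.2 hz) i
      rwa [hgz'] at this
  · obtain ⟨e, he⟩ := CfsgLib.PrimeDegree.affine_coordinates (p := p) (G := ↥(stabilizer G a)) (α := Q)
      (by rw [Nat.card_eq_fintype_card, Fintype.card_coe, S.card_blocks a]) h2
    refine Or.inl fun g hg y z hy hz hzy hgy hgz => S.mem_Ker.mpr ⟨hg, fun w hw => ?_⟩
    obtain ⟨u, v, huv⟩ := he ⟨g, hg⟩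
    obtain ⟨i, hi⟩ := e.surjective ⟨S.bl a y, hmem y hy⟩
    obtain ⟨j, hj⟩ := e.surjective ⟨S.bl a z, hmem z hz⟩
    obtain ⟨l, hl⟩ := e.surjective ⟨S.bl a w, hmem w hw⟩
    have hij : i ≠ j := fun h => hzy (by
      rw [h, hj] at hi
      rw [← show S.bl a z = S.bl a y from congrArg Subtype.val hi]
      exact S.self_mem a z hz)
    have key : ∀ (t : ZMod p) (x : Ω) (hx : a ≠ x), e t = ⟨S.bl a x, hmem x hx⟩ → g • x ∈ S.bl a x → u * t + v = t := by
      intro t x hx ht hgx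
      refine e.injective ?_
      rw [← huv, ht]
      refine Subtype.ext ?_
      rw [hval _ x hx]
      exact S.eq a x _ hx hgx
    have h1 := key i y hy hi hgy
    have h2 := key j z hz hj hgz
    have hu : u = 1 := by
      have : (u - 1) * (i - j) = 0 := by linear_combination h1 - h2
      exact sub_eq_zero.mp ((mul_eq_zero.mp this).resolve_right (sub_ne_zero.mpr hij))
    have hv : v = 0 := by rw [hu] at h1; linear_combination h1
    have h3 := congrArg Subtype.val (huv l)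
    rw [hu, hv, one_mul, add_zero, hl, hval _ w hw] at h3
    rw [← show S.bl a (g • w) = S.bl a w from h3]
    exact S.self_mem a _ (smul_ne_fixed hg hw)

end Sys

end CfsgLib.DoublyPrim
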