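/-
Doubly transitive groups of degree `p ^ 2 + 1`: the case where the kernel on blocks is regular on each block.
-/
import Cfsg.Agent.Lib.DoublyPrimitive.Shift

set_option autoImplicit false

namespace CfsgLib.DoublyPrim

open MulAction

namespace Sys

variable {G Ω : Type*} [Group G] [Finite G] [Fintype Ω] [MulAction G Ω] [FaithfulSMul G Ω] [DecidableEq Ω]
  {p : ℕ} [hp : Fact p.Prime] (S : Sys G Ω p)

omit hp in
theorem smul_mem_iff {g : G} {a b z : Ω} (hga : g • a = a) (hab : b ≠ a) :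
    g • z ∈ S.bl (g • b) a ↔ z ∈ S.bl b a := by
  have h := S.smul_bl g hab
  rw [hga] at h
  constructor
  · intro hz
    rw [← h] at hz
    obtain ⟨w, hw, e⟩ := Finset.mem_image.mp hz
    exact smul_left_cancel g e ▸ hw
  · intro hz
    rw [← h]
    exact Finset.mem_image_of_mem _ hz

theorem Data.free {S : Sys G Ω p} {a : Ω} (D : S.Data a) {b : Ω} (hab : a ≠ b) {g : G} (hg : g ∈ D.P) (hgb : g • b = b) : g = 1 := by
  classical
  let f : ↥D.P → {y // a ≠ y} := fun u => ⟨(u : G) • b, smul_ne_fixed (D.le u.2) hab⟩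
  have hf : Function.Bijective f := by
    rw [Nat.bijective_iff_surjective_and_card]
    refine ⟨fun z => ?_, ?_⟩
    · obtain ⟨u, hu, e⟩ := D.reg b z hab z.2
      exact ⟨⟨u, hu⟩, Subtype.ext e⟩
    · rw [D.card, Nat.card_eq_fintype_card, Fintype.card_subtype_compl, Fintype.card_subtype_eq', S.card, Nat.add_sub_cancel]
  exact congrArg Subtype.val (hf.1 (a₁ := ⟨g, hg⟩) (a₂ := 1) (Subtype.ext (hgb.trans (one_smul G b).symm)))

/-- The points sharing a block with `a` seen from `b` are not those sharing a block with `b` seen from `a`. -/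
theorem exists_mem_notMem {a b : Ω} (hab : a ≠ b) : ∃ x ∈ (S.bl b a).erase a, x ∉ S.bl a b := by
  by_contra h
  push Not at h
  have hsub : (S.bl b a).erase a ⊆ (S.bl a b).erase b := fun x hx => Finset.mem_erase.mpr
    ⟨fun e => S.notMem b a hab.symm (by nth_rewrite 2 [← e]; exact Finset.mem_of_mem_erase hx), h x hx⟩
  have heq := Finset.eq_of_subset_of_card_le hsub (by
    rw [Finset.card_erase_of_mem (S.self_mem a b hab), Finset.card_erase_of_mem (S.self_mem b a hab.symm),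
      S.size a b hab, S.size b a hab.symm])
  apply S.not_sym hab
  rw [← Finset.insert_erase (S.self_mem b a hab.symm), heq, Finset.insert_comm,
    Finset.insert_erase (S.self_mem a b hab)]

/-- If the stabiliser is doubly transitive on the blocks of `a`, those points form a transversal. -/
theorem transversal {a b : Ω} (hab : a ≠ b)
    (h2 : ∀ y z w, a ≠ y → a ≠ z → a ≠ w → z ∉ S.bl a y → w ∉ S.bl a y → ∃ g : G, g • a = a ∧ g • y = y ∧ g • z ∈ S.bl a w) :
    (∀ x ∈ (S.bl b a).erase a, a ≠ x ∧ b ≠ x ∧ x ∉ S.bl a b) ∧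
    (∀ y, a ≠ y → y ∉ S.bl a b → ∃ x ∈ (S.bl b a).erase a, x ∈ S.bl a y) ∧
    (∀ x ∈ (S.bl b a).erase a, ∀ x' ∈ (S.bl b a).erase a, x' ∈ S.bl a x → x' = x) := by
  classical
  set X := (S.bl b a).erase a with hX
  have hne : ∀ x ∈ X, a ≠ x ∧ b ≠ x := fun x hx =>
    ⟨(Finset.ne_of_mem_erase hx).symm, fun e => S.notMem b a hab.symm (by nth_rewrite 2 [e]; exact Finset.mem_of_mem_erase hx)⟩
  obtain ⟨x0, hx0, hx0B⟩ := S.exists_mem_notMem hab
  have hmeet : ∀ y, a ≠ y → y ∉ S.bl a b → ∃ x ∈ X, x ∈ S.bl a y := by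
    intro y hy hyB
    obtain ⟨g, hga, hgb, hgx⟩ := h2 b x0 y hab (hne x0 hx0).1 hy hx0B hyB
    refine ⟨g • x0, Finset.mem_erase.mpr ⟨fun e => ?_, ?_⟩, hgx⟩
    · exact smul_ne_fixed hga (hne x0 hx0).1 e.symm
    · have := (S.smul_mem_iff (g := g) hga hab.symm).mpr (Finset.mem_of_mem_erase hx0)
      rwa [hgb] at this
  set T := ((Finset.univ.erase a).image (S.bl a)).erase (S.bl a b)
  have hT : T.card = X.card := by
    rw [Finset.card_erase_of_mem (Finset.mem_image_of_mem _ (Finset.mem_erase.mpr ⟨hab.symm, Finset.mem_univ _⟩)),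
      S.card_blocks a, hX, Finset.card_erase_of_mem (S.self_mem b a hab.symm), S.size b a hab.symm]
  have hsub : T ⊆ (X.filter fun x => x ∉ S.bl a b).image (S.bl a) := by
    intro l hl
    obtain ⟨hlne, hl⟩ := Finset.mem_erase.mp hl
    obtain ⟨y, hy, rfl⟩ := Finset.mem_image.mp hl
    have hay : a ≠ y := (Finset.ne_of_mem_erase hy).symm
    obtain ⟨x, hx, hxy⟩ := hmeet y hay (fun h => hlne (S.eq a b y hab h))
    refine Finset.mem_image.mpr ⟨x, Finset.mem_filter.mpr ⟨hx, fun h => hlne ?_⟩, S.eq a y x hay hxy⟩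
    rw [← S.eq a y x hay hxy, S.eq a b x hab h]
  have h1 : T.card ≤ ((X.filter fun x => x ∉ S.bl a b).image (S.bl a)).card := Finset.card_le_card hsub
  have h3 := Finset.card_image_le (s := X.filter fun x => x ∉ S.bl a b) (f := S.bl a)
  have h4 : X.filter (fun x => x ∉ S.bl a b) = X :=
    Finset.eq_of_subset_of_card_le (Finset.filter_subset _ _) (by omega)
  rw [h4] at h1 h3
  have hinj : Set.InjOn (S.bl a) (X : Set Ω) := Finset.card_image_iff.mp (by omega)
  refine ⟨fun x hx => ⟨(hne x hx).1, (hne x hx).2, ?_⟩, hmeet, fun x hx x' hx' h => ?_⟩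
  · rw [← h4] at hx; exact (Finset.mem_filter.mp hx).2
  · exact hinj hx' hx (S.eq a x x' (hne x hx).1 h)

omit hp in
/-- Transporting elements between stabilisers of pairs. -/
theorem Ker_smul_eq {a b : Ω} {g u : G} (hu : u ∈ S.Ker a) (hub : u • b = b) :
    g * u * g⁻¹ ∈ S.Ker (g • a) ∧ (g * u * g⁻¹) • g • b = g • b :=
  ⟨S.Ker_conj g hu, by rw [mul_smul, mul_smul, inv_smul_smul, hub]⟩

theorem regular_all {a b : Ω} (hab : a ≠ b) (h : ∀ g ∈ S.Ker a, g • b = b → g = 1) {c d : Ω} (hcd : c ≠ d)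
    {g : G} (hg : g ∈ S.Ker c) (hgd : g • d = d) : g = 1 := by
  obtain ⟨t, rfl, rfl⟩ := S.exists_map hab hcd
  obtain ⟨h1, h2⟩ := S.Ker_smul_eq (g := t⁻¹) hg hgd
  rw [inv_smul_smul] at h1 h2
  have := h _ h1 h2
  rw [inv_inv] at this
  calc g = t * (t⁻¹ * g * t) * t⁻¹ := by group
    _ = 1 := by rw [this]; group

section Regular

variable (hreg : ∀ c d : Ω, c ≠ d → ∀ g ∈ S.Ker c, g • d = d → g = 1)
include hreg

theorem Ker_eq_zp {a b : Ω} {k : G} (hk : S.Shift a k) (hab : a ≠ b) {g : G} (hg : g ∈ S.Ker a) :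
    ∃ i : ZMod p, g = zp k i := by
  obtain ⟨i, hi⟩ := hk.coord b _ hab ((S.mem_Ker.mp hg).2 b hab)
  refine ⟨i, (inv_mul_eq_one.mp ?_).symm⟩
  exact hreg a b hab _ ((S.Ker a).mul_mem ((S.Ker a).inv_mem (zp_mem k _ hk.mem i)) hg)
    (by rw [mul_smul, ← hi, inv_smul_smul])

theorem conj_k {a b : Ω} {k : G} (hk : S.Shift a k) (hab : a ≠ b) {g : G} (hga : g • a = a) :
    ∃ μ : ZMod p, g * k * g⁻¹ = zp k μ :=
  S.Ker_eq_zp hreg hk hab (S.conj_mem_Ker hga hk.mem)

/-- An element fixing a pair commutes with the rotation as soon as it fixes a further point of the block. -/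
theorem fix_block {a b : Ω} {k : G} (hk : S.Shift a k) (hab : a ≠ b) {g : G} (hga : g • a = a) (hgb : g • b = b)
    {y : Ω} (hy : y ∈ S.bl a b) (hyb : y ≠ b) (hgy : g • y = y) : ∀ z ∈ S.bl a b, g • z = z := by
  obtain ⟨μ, hμ⟩ := S.conj_k hreg hk hab hga
  obtain ⟨i, rfl⟩ := hk.coord b y hab hy
  have hi0 : i ≠ 0 := fun e => hyb (by rw [e, zp_zero, one_smul])
  have h1 : μ * i = i := hk.inj hab (by
    rw [← zp_conj hk.pow_p hμ, mul_smul, mul_smul, inv_smul_eq_iff.mpr hgb.symm, hgy])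
  have hμ1 : μ = 1 := mul_right_cancel₀ hi0 (h1.trans (one_mul i).symm)
  intro z hz
  obtain ⟨j, rfl⟩ := hk.coord b z hab hz
  have h2 := zp_conj hk.pow_p hμ j
  rw [hμ1, one_mul] at h2
  conv_rhs => rw [← h2, mul_smul, mul_smul, inv_smul_eq_iff.mpr hgb.symm]

/-- Commutators of elements fixing a pair fix its block pointwise. -/
theorem comm_fix {a b : Ω} {k : G} (hk : S.Shift a k) (hab : a ≠ b) {g h : G} (hga : g • a = a) (hgb : g • b = b)
    (hha : h • a = a) (hhb : h • b = b) : ∀ z ∈ S.bl a b, (g * h * g⁻¹ * h⁻¹) • z = z := by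
  obtain ⟨μ, hμ⟩ := S.conj_k hreg hk hab hga
  obtain ⟨ν, hν⟩ := S.conj_k hreg hk hab hha
  intro z hz
  obtain ⟨i, rfl⟩ := hk.coord b z hab hz
  have hmove : ∀ (t : G) (ρ : ZMod p), t • b = b → t * k * t⁻¹ = zp k ρ → ∀ j, t • zp k j • b = zp k (ρ * j) • b :=
    fun t ρ htb ht j => by
      rw [← zp_conj hk.pow_p ht, mul_smul, mul_smul, inv_smul_eq_iff.mpr htb.symm]
  have e : (g * h) • zp k i • b = (h * g) • zp k i • b := by
    rw [mul_smul, mul_smul, hmove g μ hgb hμ i, hmove h ν hhb hν i, hmove g μ hgb hμ, hmove h ν hhb hν, mul_left_comm]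
  obtain ⟨j, hj⟩ := hk.coord b ((h * g)⁻¹ • zp k i • b) hab (by
    have hfix : (h * g)⁻¹ • a = a := by rw [inv_smul_eq_iff, mul_smul, hga, hha]
    have hfb : (h * g)⁻¹ • b = b := by rw [inv_smul_eq_iff, mul_smul, hgb, hhb]
    have := S.mem_bl_smul hfix hab hz
    rwa [hfb] at this)
  have e2 : (g * h) • zp k j • b = (h * g) • zp k j • b := by
    rw [mul_smul, mul_smul, hmove g μ hgb hμ j, hmove h ν hhb hν j, hmove g μ hgb hμ, hmove h ν hhb hν, mul_left_comm]
  rw [hj, smul_inv_smul] at e2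
  rw [show g * h * g⁻¹ * h⁻¹ = (g * h) * (h * g)⁻¹ by group, mul_smul, e2]

/-- A nontrivial element fixing a pair fixes no point outside the block. -/
theorem fixed_in_block {a b : Ω} (hab : a ≠ b) {g : G} (hga : g • a = a) (hgb : g • b = b) (hg : g ≠ 1) {y : Ω}
    (hay : a ≠ y) (hgy : g • y = y) : y ∈ S.bl a b := by
  classical
  obtain ⟨D⟩ := S.nonempty_data a
  obtain ⟨D'⟩ := S.nonempty_data b
  by_contra hyB
  apply hg
  rcases S.dichotomy a with h1 | h2
  · refine hreg a b hab g (h1 g hga b y hab hay hyB ?_ ?_) hgb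
    · rw [hgb]; exact S.self_mem a b hab
    · rw [hgy]; exact S.self_mem a y hay
  obtain ⟨hX, hmeet, -⟩ := S.transversal hab h2
  -- the stabiliser of the pair is abelian
  have hcomm : ∀ u v : G, u • a = a → u • b = b → v • a = a → v • b = b → u * v = v * u := by
    intro u v hua hub hva hvb
    obtain ⟨σ, hσa, hσb⟩ := S.exists_map hab hab.symm
    set c := u * v * u⁻¹ * v⁻¹ with hc
    have hca : c • a = a := by rw [hc, mul_smul, mul_smul, mul_smul, inv_smul_eq_iff.mpr hva.symm, inv_smul_eq_iff.mpr hua.symm, hva, hua]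
    have hcb : c • b = b := S.comm_fix hreg D.shift hab hua hub hva hvb b (S.self_mem a b hab)
    have hX' : ∀ x ∈ (S.bl b a).erase a, c • x = x := fun x hx =>
      S.comm_fix hreg D'.shift hab.symm hub hua hvb hva x (Finset.mem_of_mem_erase hx)
    have hK : c ∈ S.Ker a := S.mem_Ker.mpr ⟨hca, fun w hw => by
      by_cases hwB : w ∈ S.bl a b
      · rw [S.comm_fix hreg D.shift hab hua hub hva hvb w hwB]; exact S.self_mem a w hw
      · obtain ⟨x, hx, hxw⟩ := hmeet w hw hwB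
        have h3 := S.mem_bl_smul hca hw hxw
        rw [hX' x hx] at h3
        rw [← S.eq a w x hw hxw, S.eq a (c • w) x (smul_ne_fixed hca hw) h3]
        exact S.self_mem a _ (smul_ne_fixed hca hw)⟩
    have := hreg a b hab c hK hcb
    rwa [hc, mul_inv_eq_one, mul_inv_eq_iff_eq_mul] at this
  refine hreg a b hab g (S.mem_Ker.mpr ⟨hga, fun w hw => ?_⟩) hgb
  by_cases hwB : w ∈ S.bl a b
  · have := S.mem_bl_smul hga hab hwB
    rw [hgb] at this
    rwa [S.eq a b w hab hwB]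
  · obtain ⟨h, hha, hhb, hhw⟩ := h2 b y w hab hay hw hyB hwB
    have h3 : g • h • y = h • y := by rw [← mul_smul, hcomm g h hga hgb hha hhb, mul_smul, hgy]
    have h4 := S.mem_bl_smul hga hw hhw
    rw [h3] at h4
    rw [← S.eq a w (h • y) hw hhw, S.eq a (g • w) (h • y) (smul_ne_fixed hga hw) h4]
    exact S.self_mem a _ (smul_ne_fixed hga hw)

/-- The stabiliser of three points is trivial. -/
theorem three_points {a b y : Ω} (hab : a ≠ b) (hay : a ≠ y) (hby : b ≠ y) {g : G} (hga : g • a = a)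
    (hgb : g • b = b) (hgy : g • y = y) : g = 1 := by
  classical
  by_contra hg
  obtain ⟨D⟩ := S.nonempty_data a
  obtain ⟨D'⟩ := S.nonempty_data b
  have hy1 := S.fixed_in_block hreg hab hga hgb hg hay hgy
  have hy2 := S.fixed_in_block hreg hab.symm hgb hga hg hby hgy
  have hB := S.fix_block hreg D.shift hab hga hgb hy1 hby.symm hgy
  have hB' := S.fix_block hreg D'.shift hab.symm hgb hga hy2 hay.symm hgy
  obtain ⟨x, hx, hxB⟩ := S.exists_mem_notMem hab
  exact hxB (S.fixed_in_block hreg hab hga hgb hg (Finset.ne_of_mem_erase hx).symm (hB' x (Finset.mem_of_mem_erase hx)))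

end Regular

end Sys

end CfsgLib.DoublyPrim
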