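/-
Doubly transitive groups of degree `p ^ 2 + 1`: counting involutions when the kernel on blocks is regular.
-/
import Cfsg.Agent.Lib.DoublyPrimitive.Small

set_option autoImplicit false

namespace CfsgLib.DoublyPrim

open MulAction

namespace Sys

variable {G Ω : Type*} [Group G] [Finite G] [Fintype Ω] [MulAction G Ω] [FaithfulSMul G Ω] [DecidableEq Ω]
  {p : ℕ} [hp : Fact p.Prime] (S : Sys G Ω p)

include S in
omit hp in
theorem card_G {a b : Ω} (hab : a ≠ b) :
    Nat.card G = (p ^ 2 + 1) * (p ^ 2 * Nat.card ↥(stabilizer G a ⊓ stabilizer G b)) := by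
  haveI : MulAction.IsPretransitive G Ω := by
    haveI := S.two; exact isPretransitive_of_is_two_pretransitive
  have horb : MulAction.orbit ↥(stabilizer G a) b = {y | a ≠ y} := by
    ext y
    constructor
    · rintro ⟨g, rfl⟩ e
      exact hab (smul_left_cancel (g : G) ((show (g : G) • a = a from g.2).trans e))
    · intro hy
      obtain ⟨g, hga, hgb⟩ := S.exists_map hab hy
      exact ⟨⟨g, hga⟩, hgb⟩
  have h := (stabilizer ↥(stabilizer G a) b).card_mul_index
  rw [index_stabilizer, horb, show {y : Ω | a ≠ y} = {a}ᶜ by ext y; simp [eq_comm], Set.ncard_compl,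
    Nat.card_eq_fintype_card (α := Ω), S.card, Set.ncard_singleton, Nat.add_sub_cancel] at h
  have h2 : Nat.card ↥(stabilizer ↥(stabilizer G a) b) = Nat.card ↥(stabilizer G a ⊓ stabilizer G b) := by
    rw [show stabilizer ↥(stabilizer G a) b = (stabilizer G a ⊓ stabilizer G b).subgroupOf (stabilizer G a) by
      ext g; simp [Subgroup.mem_subgroupOf, Subgroup.mem_inf]; rfl]
    exact Nat.card_congr (Subgroup.subgroupOfEquivOfLe inf_le_left).toEquiv
  rw [← (stabilizer G a).card_mul_index, index_stabilizer_of_transitive G a, Nat.card_eq_fintype_card (α := Ω),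
    S.card, ← h, h2]
  ring

omit hp in
theorem card_pair {a b c d : Ω} (S : Sys G Ω p) (hab : a ≠ b) (hcd : c ≠ d) :
    Nat.card ↥(stabilizer G a ⊓ stabilizer G b) = Nat.card ↥(stabilizer G c ⊓ stabilizer G d) := by
  have h := (S.card_G hab).symm.trans (S.card_G hcd)
  exact Nat.eq_of_mul_eq_mul_left (pow_pos S.prime.pos 2) (Nat.eq_of_mul_eq_mul_left (by positivity) h)

/-- The degree-two case. -/
theorem card_twenty (S : Sys G Ω p) (hp2 : p = 2) : Nat.card G = 20 := by
  classical
  obtain ⟨a, b, hab⟩ := Fintype.exists_pair_of_one_lt_card (α := Ω) (by rw [S.card, hp2]; norm_num)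
  obtain ⟨D⟩ := S.nonempty_data a
  suffices h : stabilizer G a ⊓ stabilizer G b = ⊥ by
    rw [S.card_G hab, h, Subgroup.card_bot, hp2]; norm_num
  rw [Subgroup.eq_bot_iff_forall]
  intro g hg
  obtain ⟨hga, hgb⟩ := hg
  have hK : g ∈ S.Ker a := by
    refine S.mem_Ker.mpr ⟨hga, fun y hy => ?_⟩
    have h1 : S.bl a (g • y) = S.bl a y := by
      have hc := S.card_blocks a
      have m1 : S.bl a y ∈ (Finset.univ.erase a).image (S.bl a) :=
        Finset.mem_image_of_mem _ (Finset.mem_erase.mpr ⟨hy.symm, Finset.mem_univ _⟩)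
      have m2 : S.bl a (g • y) ∈ (Finset.univ.erase a).image (S.bl a) :=
        Finset.mem_image_of_mem _ (Finset.mem_erase.mpr ⟨(smul_ne_fixed hga hy).symm, Finset.mem_univ _⟩)
      have m3 : S.bl a b ∈ (Finset.univ.erase a).image (S.bl a) :=
        Finset.mem_image_of_mem _ (Finset.mem_erase.mpr ⟨hab.symm, Finset.mem_univ _⟩)
      by_cases e : S.bl a y = S.bl a b
      · rw [e, ← S.bl_smul hga hy, e, S.bl_smul hga hab]
        exact congrArg (S.bl a) hgb
      · have e' : S.bl a (g • y) ≠ S.bl a b := fun h => e (by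
          rw [← S.bl_smul hga hy, ← show g • b = b from hgb, ← S.bl_smul hga hab] at h
          exact Finset.image_injective (MulAction.injective g) h)
        obtain ⟨u, v, -, huv⟩ := Finset.card_eq_two.mp (hc.trans hp2)
        simp only [huv, Finset.mem_insert, Finset.mem_singleton] at m1 m2 m3
        grind
    rw [← h1]
    exact S.self_mem a _ (smul_ne_fixed hga hy)
  have hcomm : g * D.k = D.k * g := by
    refine eq_of_smul_eq_smul (α := Ω) fun y => ?_
    rw [mul_smul, mul_smul]
    rcases eq_or_ne a y with rfl | hy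
    · rw [D.shift.fix, show g • a = a from hga, D.shift.fix]
    have hkm : ∀ z ∈ S.bl a y, D.k • z ∈ S.bl a y ∧ D.k • z ≠ z := fun z hz => by
      refine ⟨?_, fun e => one_ne_zero (α := ZMod p) (D.shift.free z (S.ne_of_mem hy hz) 1 (by rw [zp_one, e]))⟩
      rw [← S.eq a y z hy hz]
      exact (S.mem_Ker.mp D.shift.mem).2 z (S.ne_of_mem hy hz)
    obtain ⟨h1, h2⟩ := hkm y (S.self_mem a y hy)
    have h3 : g • y ∈ S.bl a y := (S.mem_Ker.mp hK).2 y hy
    obtain ⟨h4, h5⟩ := hkm (g • y) h3
    have h6 : g • D.k • y ∈ S.bl a y := by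
      have := (S.mem_Ker.mp hK).2 _ (S.ne_of_mem hy h1)
      rwa [S.eq a y _ hy h1] at this
    have h7 : g • D.k • y ≠ g • y := fun e => h2 (smul_left_cancel g e)
    have hc := S.size a y hy
    obtain ⟨u, v, -, huv⟩ := Finset.card_eq_two.mp (hc.trans hp2)
    simp only [huv, Finset.mem_insert, Finset.mem_singleton] at h3 h4 h6
    grind
  exact D.shift.eq_one_of_commute hK hcomm hab hgb

omit [Finite G] hp in
/-- A fixed-point-free involution on `2 m` points with `m` odd is odd. -/
theorem sign_eq_neg_one {σ : Equiv.Perm Ω} (h2 : orderOf σ = 2) (hfree : ∀ x, σ x ≠ x) {m : ℕ}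
    (hm : Odd m) (hcard : Fintype.card Ω = 2 * m) : Equiv.Perm.sign σ = -1 := by
  haveI : Fact (Nat.Prime 2) := ⟨Nat.prime_two⟩
  obtain ⟨n, hn⟩ := Equiv.Perm.cycleType_prime_order (σ := σ) (by rw [h2]; exact Nat.prime_two)
  rw [h2] at hn
  have hs : σ.support = Finset.univ := Finset.eq_univ_of_forall fun x => Equiv.Perm.mem_support.mpr (hfree x)
  have h3 := σ.sum_cycleType
  rw [hn, Multiset.sum_replicate, hs, Finset.card_univ, hcard, smul_eq_mul] at h3
  rw [Equiv.Perm.sign_of_cycleType, hn, Multiset.sum_replicate, Multiset.card_replicate, smul_eq_mul]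
  refine Odd.neg_one_pow ?_
  have : n + 1 = m := by omega
  rw [this]
  exact Even.add_odd (by simp [Nat.even_mul]) hm

/-- A regular kernel is impossible for odd `p`. -/
theorem regular_false (S : Sys G Ω p) (hp2 : p ≠ 2) {a b : Ω} (hab : a ≠ b)
    (hreg : ∀ g ∈ S.Ker a, g • b = b → g = 1) : False := by
  classical
  have hall : ∀ c d : Ω, c ≠ d → ∀ g ∈ S.Ker c, g • d = d → g = 1 := fun c d hcd g hg hgd =>
    S.regular_all hab hreg hcd hg hgd
  haveI : MulAction.IsPretransitive G Ω := by
    haveI := S.two; exact isPretransitive_of_is_two_pretransitive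
  have h3 : 3 ≤ p := by have := hp.out.two_le; omega
  have hodd : Odd p := hp.out.odd_of_ne_two hp2
  set d := Nat.card ↥(stabilizer G a ⊓ stabilizer G b) with hd
  -- the stabiliser of a pair embeds in the automorphisms of the rotation
  have hemb : ∀ {x y : Ω}, x ≠ y → ∃ f : ↥(stabilizer G x ⊓ stabilizer G y) → ZMod p, Function.Injective f ∧
      ∀ t, t ^ 2 = 1 → f t = 1 ∨ f t = -1 := by
    intro x y hxy
    obtain ⟨D⟩ := S.nonempty_data x
    choose μ hμ using fun g : ↥(stabilizer G x ⊓ stabilizer G y) => S.conj_k hall D.shift hxy g.2.1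
    refine ⟨μ, fun g h e => ?_, fun t ht => ?_⟩
    · have hz : x ≠ D.k • y ∧ y ≠ D.k • y := by
        refine ⟨smul_ne_fixed D.shift.fix hxy, fun e => one_ne_zero (α := ZMod p) (D.shift.free y hxy 1 ?_)⟩
        rw [zp_one]; exact e.symm
      have h1 : ((h : G)⁻¹ * g) • D.k • y = D.k • y := by
        have h2 : (g : G) • D.k • y = (h : G) • D.k • y := by
          have e1 : (g : G) * D.k * (g : G)⁻¹ = (h : G) * D.k * (h : G)⁻¹ := by rw [hμ, hμ, e]
          have e2 := congrArg (· • y) e1
          simp only [mul_smul, inv_smul_eq_iff.mpr (show (g : G) • y = y from g.2.2).symm,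
            inv_smul_eq_iff.mpr (show (h : G) • y = y from h.2.2).symm] at e2
          exact e2
        rw [mul_smul, h2, inv_smul_smul]
      have := S.three_points hall hxy hz.1 hz.2 ((stabilizer G x).mul_mem ((stabilizer G x).inv_mem h.2.1) g.2.1)
        ((stabilizer G y).mul_mem ((stabilizer G y).inv_mem h.2.2) g.2.2) h1
      exact Subtype.ext (inv_mul_eq_one.mp this).symm
    · have e1 : (t : G) * (t : G) = 1 := by rw [← pow_two, ← Subgroup.coe_pow, ht]; rfl
      have e2 := zp_conj D.shift.pow_p (hμ t) (μ t)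
      rw [← hμ t] at e2
      rw [show (t : G) * ((t : G) * D.k * (t : G)⁻¹) * (t : G)⁻¹ = ((t : G) * t) * D.k * ((t : G) * t)⁻¹ by group,
        e1, one_mul, inv_one, mul_one] at e2
      nth_rewrite 1 [← zp_one (p := p) D.k] at e2
      have e3 : (1 : ZMod p) = μ t * μ t := D.shift.inj hxy (congrArg (· • y) e2)
      exact mul_self_eq_one_iff.mp e3.symm
  -- at most one involution fixes a pair
  have huniq : ∀ {x y : Ω}, x ≠ y → ∀ t t' : G, t ^ 2 = 1 → t'^2 = 1 → t ≠ 1 → t' ≠ 1 →
      t • x = x → t • y = y → t' • x = x → t' • y = y → t = t' := by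
    intro x y hxy t t' ht ht' htne ht'ne h1 h2 h3 h4
    obtain ⟨f, hf, hf2⟩ := hemb hxy
    set u : ↥(stabilizer G x ⊓ stabilizer G y) := ⟨t, h1, h2⟩
    set u' : ↥(stabilizer G x ⊓ stabilizer G y) := ⟨t', h3, h4⟩
    have h1' : f 1 = 1 ∨ f 1 = -1 := hf2 1 (one_pow 2)
    have k1 : f u ≠ f 1 := fun e => htne (congrArg Subtype.val (hf e))
    have k2 : f u' ≠ f 1 := fun e => ht'ne (congrArg Subtype.val (hf e))
    have m1 := hf2 u (Subtype.ext ht)
    have m2 := hf2 u' (Subtype.ext ht')
    have : f u = f u' := by grind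
    exact congrArg Subtype.val (hf this)
  have hdp : d ≤ p := by
    obtain ⟨f, hf, -⟩ := hemb hab
    exact (Nat.card_le_card_of_injective f hf).trans (Nat.card_zmod p).le
  have hG := S.card_G hab
  rw [← hd] at hG
  rcases Nat.even_or_odd d with hdev | hdodd
  · -- too many involutions
    haveI := Fintype.ofFinite G
    set I : Finset G := Finset.univ.filter fun t => t ^ 2 = 1 ∧ t ≠ 1 with hI
    have hlow : (Finset.univ.offDiag : Finset (Ω × Ω)).card ≤ I.card * 2 := by
      have hex : ∀ q : Ω × Ω, q.1 ≠ q.2 → ∃ t : G, t ^ 2 = 1 ∧ t ≠ 1 ∧ t • q.1 = q.1 ∧ t • q.2 = q.2 := by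
        intro q hq
        haveI : Fact (Nat.Prime 2) := ⟨Nat.prime_two⟩
        obtain ⟨t, ht⟩ := exists_prime_orderOf_dvd_card' (G := ↥(stabilizer G q.1 ⊓ stabilizer G q.2)) 2
          (S.card_pair hab hq ▸ hdev.two_dvd)
        refine ⟨t, ?_, fun e => ?_, t.2.1, t.2.2⟩
        · rw [← Subgroup.coe_pow, ← ht, pow_orderOf_eq_one]; rfl
        · rw [show t = 1 from Subtype.ext e, orderOf_one] at ht; omega
      choose f hf1 hf2 hf3 hf4 using hex
      let F : Ω × Ω → G := fun q => if h : q.1 ≠ q.2 then f q h else 1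
      refine (Finset.card_le_mul_card_image (f := F) _ 2 fun t _ => ?_).trans ?_
      · set Fx : Finset Ω := Finset.univ.filter fun x => t • x = x
        have hsub : (Finset.univ.offDiag : Finset (Ω × Ω)).filter (fun q => F q = t) ⊆ Fx.offDiag ∩ Finset.univ.offDiag := by
          intro q hq
          obtain ⟨hq', hFq⟩ := Finset.mem_filter.mp hq
          have hne : q.1 ≠ q.2 := (Finset.mem_offDiag.mp hq').2.2
          have hF : F q = f q hne := dif_pos hne
          refine Finset.mem_inter.mpr ⟨Finset.mem_offDiag.mpr ⟨?_, ?_, hne⟩, hq'⟩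
          · exact Finset.mem_filter.mpr ⟨Finset.mem_univ _, by rw [← hFq, hF]; exact hf3 q hne⟩
          · exact Finset.mem_filter.mpr ⟨Finset.mem_univ _, by rw [← hFq, hF]; exact hf4 q hne⟩
        rcases Finset.eq_empty_or_nonempty ((Finset.univ.offDiag : Finset (Ω × Ω)).filter (fun q => F q = t)) with he | ⟨q, hq⟩
        · rw [he]; simp
        obtain ⟨hq', hqt⟩ := Finset.mem_filter.mp hq
        have hne : q.1 ≠ q.2 := (Finset.mem_offDiag.mp hq').2.2
        have hFt : f q hne = t := (dif_pos hne).symm.trans hqt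
        have hFx : Fx.card ≤ 2 := by
          by_contra h
          obtain ⟨x, y, z, hx, hy, hz, hxy, hxz, hyz⟩ := Finset.two_lt_card_iff.mp (not_le.mp h)
          simp only [Fx, Finset.mem_filter, Finset.mem_univ, true_and] at hx hy hz
          exact hf2 q hne (hFt ▸ S.three_points hall hxy hxz hyz hx hy hz)
        refine (Finset.card_le_card (hsub.trans Finset.inter_subset_left)).trans ?_
        rw [Finset.offDiag_card]
        have : Fx.card * Fx.card ≤ 2 * Fx.card := Nat.mul_le_mul_right _ hFx
        omega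
      · rw [mul_comm]
        refine Nat.mul_le_mul_right 2 (Finset.card_le_card fun t ht => ?_)
        obtain ⟨q, hq, rfl⟩ := Finset.mem_image.mp ht
        have hne : q.1 ≠ q.2 := (Finset.mem_offDiag.mp hq).2.2
        rw [show F q = f q hne from dif_pos hne]
        exact Finset.mem_filter.mpr ⟨Finset.mem_univ _, hf1 q hne, hf2 q hne⟩
    have hfixed : ∀ t ∈ I.filter (fun t => t • a = a), ∃ c, a ≠ c ∧ t • c = c := by
      intro t ht
      simp only [hI, Finset.mem_filter, Finset.mem_univ, true_and] at ht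
      obtain ⟨⟨ht2, htne⟩, hta⟩ := ht
      haveI : Fact (Nat.Prime 2) := ⟨Nat.prime_two⟩
      have hP : IsPGroup 2 ↥(Subgroup.zpowers t) := by
        refine IsPGroup.of_card (n := 1) ?_
        rw [Nat.card_zpowers, pow_one]
        exact orderOf_eq_prime ht2 htne
      have hmod := hP.card_modEq_card_fixedPoints Ω
      rw [Nat.card_eq_fintype_card, S.card] at hmod
      by_contra hno
      push Not at hno
      have heq : MulAction.fixedPoints ↥(Subgroup.zpowers t) Ω = {a} := by
        ext c
        refine ⟨fun hc => ?_, fun hc => ?_⟩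
        · by_contra hne
          exact hno c (Ne.symm hne) (hc ⟨t, Subgroup.mem_zpowers t⟩)
        · rw [Set.mem_singleton_iff] at hc
          subst hc
          rintro ⟨u, hu⟩
          exact (Subgroup.zpowers_le.mpr (show t ∈ stabilizer G c from hta)) hu
      rw [heq, Nat.card_coe_set_eq, Set.ncard_singleton] at hmod
      obtain ⟨r, hr⟩ := hodd
      rw [Nat.ModEq, hr] at hmod
      ring_nf at hmod
      omega
    have hup1 : (I.filter fun t => t • a = a).card ≤ p ^ 2 := by
      choose g hg1 hg2 using hfixed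
      refine (Finset.card_le_card_of_injOn (fun t => if h : t ∈ I.filter (fun t => t • a = a) then g t h else a)
        (t := Finset.univ.erase a) (fun t ht => ?_) (fun t ht t' ht' e => ?_)).trans ?_
      · rw [Finset.mem_coe] at ht ⊢
        simp only [dif_pos ht]
        exact Finset.mem_erase.mpr ⟨(hg1 t ht).symm, Finset.mem_univ _⟩
      · rw [Finset.mem_coe] at ht ht'
        simp only [dif_pos ht, dif_pos ht'] at e
        have m1 := ht; have m2 := ht'
        simp only [hI, Finset.mem_filter, Finset.mem_univ, true_and] at m1 m2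
        exact huniq (hg1 t ht) t t' m1.1.1 m2.1.1 m1.1.2 m2.1.2 m1.2 (hg2 t ht) m2.2 (e ▸ hg2 t' ht')
      · rw [Finset.card_erase_of_mem (Finset.mem_univ a), Finset.card_univ, S.card]; omega
    have hup2 : (I.filter fun t => ¬ t • a = a).card ≤ p ^ 2 * d := by
      refine (Finset.card_le_mul_card_image (f := fun t => t • a) _ d fun c hc => ?_).trans ?_
      · obtain ⟨t0, ht0, rfl⟩ := Finset.mem_image.mp hc
        simp only [hI, Finset.mem_filter, Finset.mem_univ, true_and] at ht0
        have hac : a ≠ t0 • a := fun e => ht0.2 e.symm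
        rw [show d = Nat.card ↥(stabilizer G a ⊓ stabilizer G (t0 • a)) from S.card_pair hab hac,
          Nat.card_eq_fintype_card, ← Fintype.card_coe]
        refine Fintype.card_le_of_injective (fun t => ⟨t0⁻¹ * t.1, ?_, ?_⟩) (fun t t' e => ?_)
        · obtain ⟨ht, htc⟩ := Finset.mem_filter.mp t.2
          show (t0⁻¹ * t.1) • a = a
          rw [mul_smul, htc, inv_smul_smul]
        · obtain ⟨ht, htc⟩ := Finset.mem_filter.mp t.2
          simp only [hI, Finset.mem_filter, Finset.mem_univ, true_and] at ht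
          show (t0⁻¹ * t.1) • t0 • a = t0 • a
          have k1 : t.1 • t.1 • a = a := by rw [← mul_smul, ← pow_two, ht.1.1, one_smul]
          have k2 : t0 • t0 • a = a := by rw [← mul_smul, ← pow_two, ht0.1.1, one_smul]
          have htc' : t0 • a = t.1 • a := htc.symm
          have k3 : t.1 • t0 • a = a := by
            refine Eq.trans ?_ k1
            exact congrArg (t.1 • ·) htc'
          rw [mul_smul, k3, inv_smul_eq_iff, k2]
        · exact Subtype.ext (mul_left_cancel (congrArg Subtype.val e))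
      · rw [mul_comm]
        refine Nat.mul_le_mul_right d ((Finset.card_le_card (t := Finset.univ.erase a) fun c hc => ?_).trans ?_)
        · obtain ⟨t, ht, rfl⟩ := Finset.mem_image.mp hc
          exact Finset.mem_erase.mpr ⟨(Finset.mem_filter.mp ht).2, Finset.mem_univ _⟩
        · rw [Finset.card_erase_of_mem (Finset.mem_univ a), Finset.card_univ, S.card]; omega
    have hsum := Finset.card_filter_add_card_filter_not (s := I) (fun t : G => t • a = a)
    rw [Finset.offDiag_card, Finset.card_univ, S.card] at hlow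
    have h4 : (p ^ 2 + 1) * (p ^ 2 + 1) - (p ^ 2 + 1) = p ^ 2 * (p ^ 2 + 1) := by
      rw [Nat.add_mul, one_mul, Nat.add_sub_cancel]
    rw [h4] at hlow
    have h5 : p ^ 2 * (p ^ 2 + 1) ≤ p ^ 2 * (2 * (1 + d)) := by nlinarith
    have h6 := Nat.le_of_mul_le_mul_left h5 (pow_pos hp.out.pos 2)
    nlinarith
  · -- an odd permutation
    set χ : G →* ℤˣ := Equiv.Perm.sign.comp (MulAction.toPermHom G Ω)
    have hstab : ∀ (x : Ω) (g : G), g • x = x → χ g = 1 := by
      intro x g hg
      obtain ⟨y, hy⟩ := Fintype.exists_ne_of_one_lt_card (α := Ω) (by rw [S.card]; nlinarith) x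
      have hodd' : Odd (Nat.card ↥(stabilizer G x)) := by
        have h := (stabilizer G x).card_mul_index
        rw [index_stabilizer_of_transitive G x, Nat.card_eq_fintype_card (α := Ω), S.card, hG,
          mul_comm (p ^ 2 + 1)] at h
        rw [Nat.eq_of_mul_eq_mul_right (by positivity) h]
        exact (hodd.pow).mul hdodd
      have hord : Odd (orderOf g) := Odd.of_dvd_nat hodd' (Subgroup.orderOf_dvd_natCard _ hg)
      rcases Int.units_eq_one_or (χ g) with h | h
      · exact h
      · have := congrArg χ (pow_orderOf_eq_one g)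
        rw [map_pow, h, hord.neg_one_pow, map_one] at this
        exact absurd this (by decide)
    obtain ⟨t, ht⟩ : ∃ t : G, orderOf t = 2 := by
      haveI : Fact (Nat.Prime 2) := ⟨Nat.prime_two⟩
      refine exists_prime_orderOf_dvd_card' 2 ?_
      rw [hG]
      exact dvd_mul_of_dvd_left (hodd.pow.add_odd odd_one).two_dvd _
    have hfree : ∀ x : Ω, t • x ≠ x := by
      intro x hx
      obtain ⟨y, hy⟩ := Fintype.exists_ne_of_one_lt_card (α := Ω) (by rw [S.card]; nlinarith) x
      have h := (stabilizer G x).card_mul_index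
      rw [index_stabilizer_of_transitive G x, Nat.card_eq_fintype_card (α := Ω), S.card, hG,
        mul_comm (p ^ 2 + 1)] at h
      have h2 : 2 ∣ p ^ 2 * d := by
        rw [← Nat.eq_of_mul_eq_mul_right (by positivity) h, ← ht]
        exact Subgroup.orderOf_dvd_natCard _ hx
      exact Nat.not_even_iff_odd.mpr (hodd.pow.mul hdodd) (even_iff_two_dvd.mpr h2)
    have hsign : χ t = -1 := by
      obtain ⟨r, hr⟩ := hodd
      refine sign_eq_neg_one (m := 2 * r ^ 2 + 2 * r + 1) ?_ hfree ⟨r ^ 2 + r, by ring⟩ (by rw [S.card, hr]; ring)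
      rw [orderOf_injective (MulAction.toPermHom G Ω) (MulAction.toPerm_injective (α := G) (β := Ω)), ht]
    obtain ⟨c, hca, hct⟩ : ∃ c, c ≠ a ∧ c ≠ t • a := by
      obtain ⟨c, hc⟩ : ((Finset.univ.erase a).erase (t • a)).Nonempty := by
        rw [← Finset.card_pos, Finset.card_erase_of_mem, Finset.card_erase_of_mem (Finset.mem_univ _),
          Finset.card_univ, S.card]
        · have := Nat.pow_le_pow_left h3 2; omega
        · exact Finset.mem_erase.mpr ⟨hfree a, Finset.mem_univ _⟩
      exact ⟨c, (Finset.mem_erase.mp (Finset.mem_of_mem_erase hc)).1, (Finset.mem_erase.mp hc).1⟩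
    obtain ⟨u, huc, hua⟩ := S.exists_map hca hct
    have h1 := hstab a (u⁻¹ * t) (by rw [mul_smul, ← hua, inv_smul_smul])
    rw [map_mul, map_inv, hstab c u huc, inv_one, one_mul, hsign] at h1
    exact absurd h1 (by decide)

end Sys

end CfsgLib.DoublyPrim
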