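/-
A circulant relation between two inequivalent-looking actions of prime degree is trivial.
-/
import Mathlib

set_option autoImplicit false

namespace CfsgLib.DoublyPrim

open Finset Polynomial

variable {p : ℕ} [hp : Fact p.Prime]

theorem const_of_sum_eq_zero {ζ : ℂ} (h : IsPrimitiveRoot ζ p) (c : ZMod p → ℤ)
    (h0 : ∑ i, (c i : ℂ) * ζ ^ i.val = 0) (i j : ZMod p) : c i = c j := by
  classical
  set P : ℚ[X] := ∑ i : ZMod p, C (c i : ℚ) * X ^ i.val with hP
  have hcoef : ∀ k : ZMod p, P.coeff k.val = c k := by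
    intro k
    rw [hP, finsetSum_coeff, Finset.sum_eq_single k]
    · simp
    · intro b _ hb
      rw [coeff_C_mul, coeff_X_pow, if_neg (fun e => hb (ZMod.val_injective p e).symm), mul_zero]
    · simp
  have hdeg : P.natDegree ≤ p - 1 := by
    refine natDegree_sum_le_of_forall_le _ _ fun b _ => (natDegree_C_mul_X_pow_le _ _).trans ?_
    have := ZMod.val_lt b
    omega
  have hmin : cyclotomic p ℚ ∣ P := by
    rw [cyclotomic_eq_minpoly_rat h hp.out.pos]
    refine minpoly.dvd ℚ ζ ?_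
    rw [hP, map_sum, ← h0]
    exact Finset.sum_congr rfl fun b _ => by simp
  obtain ⟨R, hR⟩ := hmin
  have hR0 : R.natDegree = 0 := by
    rcases eq_or_ne R 0 with rfl | hne
    · simp
    have h1 := natDegree_mul (cyclotomic_ne_zero p ℚ) hne
    rw [← hR, natDegree_cyclotomic, Nat.totient_prime hp.out] at h1
    omega
  obtain ⟨a, rfl⟩ := natDegree_eq_zero.mp hR0
  have key : ∀ k : ZMod p, (c k : ℚ) = a := fun k => by
    rw [← hcoef k, hR, mul_comm, coeff_C_mul, cyclotomic_prime, finsetSum_coeff,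
      Finset.sum_eq_single k.val (fun b _ hb => by simp [coeff_X_pow, hb.symm])
        (fun hk => absurd (Finset.mem_range.mpr (ZMod.val_lt k)) hk)]
    simp
  exact_mod_cast (key i).trans (key j).symm

theorem pow_val_add {ζ : ℂ} (h : ζ ^ p = 1) (i j : ZMod p) : ζ ^ (i + j).val = ζ ^ i.val * ζ ^ j.val := by
  rw [ZMod.val_add, ← pow_add, ← pow_eq_pow_mod _ h]

theorem pow_val_mul {ζ : ℂ} (h : ζ ^ p = 1) (i j : ZMod p) : ζ ^ (i * j).val = (ζ ^ i.val) ^ j.val := by
  rw [ZMod.val_mul, ← pow_mul, pow_eq_pow_mod (i.val * j.val) h]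

theorem prim_pow_val {ζ : ℂ} (h : IsPrimitiveRoot ζ p) {r : ZMod p} (hr : r ≠ 0) :
    IsPrimitiveRoot (ζ ^ r.val) p := by
  refine h.pow_of_coprime _ ((hp.out.coprime_iff_not_dvd.mpr ?_).symm)
  intro hd
  exact hr ((ZMod.val_eq_zero r).mp (Nat.eq_zero_of_dvd_of_lt hd (ZMod.val_lt r)))

/-- The character sum of a function. -/
noncomputable def hat (ζ : ℂ) (D : ZMod p → ℤ) : ℂ := ∑ i, (D i : ℂ) * ζ ^ i.val

theorem hat_shift {ζ : ℂ} (h : ζ ^ p = 1) (D : ZMod p → ℤ) (t : ZMod p) :
    hat ζ (fun i => D (i - t)) = ζ ^ t.val * hat ζ D := by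
  rw [hat, hat, Finset.mul_sum, ← Equiv.sum_comp (Equiv.addRight t)]
  refine Finset.sum_congr rfl fun i _ => ?_
  simp only [Equiv.coe_addRight, add_sub_cancel_right, pow_val_add h]
  ring

theorem hat_mul {ζ : ℂ} (h : ζ ^ p = 1) (D : ZMod p → ℤ) {r : ZMod p} (hr : r ≠ 0) :
    hat (ζ ^ r.val) D = hat ζ (fun i => D (i * r⁻¹)) := by
  rw [hat, hat, ← Equiv.sum_comp (Equiv.mulRight₀ r hr) (fun i => (D (i * r⁻¹) : ℂ) * ζ ^ i.val)]
  refine Finset.sum_congr rfl fun i _ => ?_
  simp only [Equiv.mulRight₀_apply, mul_assoc i, mul_inv_cancel₀ hr, mul_one]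
  rw [mul_comm i, pow_val_mul h]

/-- Iterated circulant matrices. -/
def circPow (D : ZMod p → ℤ) : ℕ → ZMod p → ZMod p → ℤ
  | 0 => fun i j => if i = j then 1 else 0
  | m + 1 => fun i j => ∑ l, circPow D m i l * D (j - l)

theorem hat_circPow {ζ : ℂ} (h : ζ ^ p = 1) (D : ZMod p → ℤ) (m : ℕ) (i : ZMod p) :
    ∑ j, (circPow D m i j : ℂ) * ζ ^ j.val = hat ζ D ^ m * ζ ^ i.val := by
  induction m with
  | zero => simp [circPow]
  | succ m ih =>
    simp only [circPow, Int.cast_sum, Int.cast_mul, Finset.sum_mul]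
    rw [Finset.sum_comm]
    calc ∑ l, ∑ j, (circPow D m i l : ℂ) * (D (j - l) : ℂ) * ζ ^ j.val
        = ∑ l, (circPow D m i l : ℂ) * hat ζ (fun j => D (j - l)) := by
          refine Finset.sum_congr rfl fun l _ => ?_
          rw [hat, Finset.mul_sum]
          exact Finset.sum_congr rfl fun j _ => by ring
      _ = hat ζ D ^ (m + 1) * ζ ^ i.val := by
          rw [pow_succ, mul_comm (hat ζ D ^ m), mul_assoc, ← ih, Finset.mul_sum]
          refine Finset.sum_congr rfl fun l _ => ?_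
          rw [hat_shift h]; ring

theorem circPow_inv {H : Type*} (φ : H → Equiv.Perm (ZMod p)) (θ : H → H) (D : ZMod p → ℤ)
    (hinv : ∀ h i j, D (φ (θ h) j - φ h i) = D (j - i)) (m : ℕ) :
    ∀ h i j, circPow D m (φ h i) (φ (θ^[m] h) j) = circPow D m i j := by
  induction m with
  | zero => intro h i j; simp [circPow]
  | succ m ih =>
    intro h i j
    simp only [circPow]
    rw [← Equiv.sum_comp (φ (θ^[m] h))]
    refine Finset.sum_congr rfl fun l _ => ?_
    rw [ih, Function.iterate_succ_apply', hinv]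

/-- A circulant 0-1 relation invariant under a doubly transitive twisted action is constant away from zero. -/
theorem constant_off_zero {H : Type*} (φ : H → Equiv.Perm (ZMod p)) (θ : H → H) (D : ZMod p → ℤ)
    (hinv : ∀ h i j, D (φ (θ h) j - φ h i) = D (j - i))
    (s : ZMod p) (hper : ∀ h j, φ (θ^[p] h) j = φ h (j + s) - s)
    (htrans : ∀ i j : ZMod p, i ≠ j → ∃ h, φ h 0 = i ∧ φ h 1 = j)
    (μ : ZMod p) (hμ0 : μ ≠ 0) (hμ1 : μ ≠ 1) (hμ : ∀ i, D (μ * i) = D i)
    (hnc : ∃ i j, D i ≠ D j) : ∀ i j : ZMod p, i ≠ 0 → j ≠ 0 → D i = D j := by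
  classical
  obtain ⟨ζ, hζ⟩ : ∃ ζ : ℂ, IsPrimitiveRoot ζ p := ⟨_, Complex.isPrimitiveRoot_exp p hp.out.ne_zero⟩
  have hne : ∀ η : ℂ, IsPrimitiveRoot η p → hat η D ≠ 0 := fun η hη h0 => by
    obtain ⟨i, j, hij⟩ := hnc
    exact hij (const_of_sum_eq_zero hη D h0 i j)
  -- the iterated relation is a combination of the identity and the all-one relation
  set N : ZMod p → ZMod p → ℤ := fun i j => circPow D p i (j - s) with hN
  have hNinv : ∀ h i j, N (φ h i) (φ h j) = N i j := fun h i j => by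
    have h1 := circPow_inv φ θ D hinv p h i (j - s)
    rw [hper, sub_add_cancel] at h1
    exact h1
  have hd : ∀ i, N i i = N 0 0 := fun i => by
    obtain ⟨h, h0, -⟩ := htrans i (i + 1) (by simp)
    rw [← h0, hNinv]
  have ho : ∀ i j, i ≠ j → N i j = N 0 1 := fun i j hij => by
    obtain ⟨h, h0, h1⟩ := htrans i j hij
    rw [← h0, ← h1, hNinv]
  set A : ℂ := (N 0 0 : ℂ) - (N 0 1 : ℂ)
  have heq : ∀ η : ℂ, IsPrimitiveRoot η p → hat η D ^ p = A * η ^ (-s).val := by
    intro η hη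
    have h1 := hat_circPow hη.pow_eq_one D p 0
    rw [ZMod.val_zero, pow_zero, mul_one] at h1
    rw [← h1, ← Equiv.sum_comp (Equiv.subRight s)]
    have hval : ∀ j, (circPow D p 0 (Equiv.subRight s j) : ℂ) =
        (N 0 1 : ℂ) + (if j = 0 then A else 0) := fun j => by
      show (N 0 j : ℂ) = _
      by_cases hj : j = 0
      · rw [hj, if_pos rfl]; simp [A]
      · rw [if_neg hj, ho 0 j (Ne.symm hj), add_zero]
    have hsum : ∑ j : ZMod p, η ^ (ZMod.val j) = 0 := by
      have h2 : (∑ j : ZMod p, η ^ (ZMod.val j)) = ∑ k ∈ Finset.range p, η ^ k := by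
        refine Finset.sum_bij' (fun j _ => j.val) (fun k _ => (k : ZMod p)) (fun j _ => Finset.mem_range.mpr (ZMod.val_lt j))
          (fun _ _ => Finset.mem_univ _) (fun j _ => ZMod.natCast_zmod_val j)
          (fun k hk => ZMod.val_natCast_of_lt (Finset.mem_range.mp hk)) (fun _ _ => rfl)
      rw [h2, hη.geom_sum_eq_zero hp.out.one_lt]
    calc ∑ j, (circPow D p 0 (Equiv.subRight s j) : ℂ) * η ^ (Equiv.subRight s j).val
        = ∑ j : ZMod p, ((N 0 1 : ℂ) + (if j = 0 then A else 0)) * (η ^ j.val * η ^ (-s).val) := by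
          refine Finset.sum_congr rfl fun j _ => ?_
          rw [hval, ← pow_val_add hη.pow_eq_one, Equiv.subRight_apply, sub_eq_add_neg]
      _ = A * η ^ (-s).val := by
          simp only [add_mul, Finset.sum_add_distrib, ← Finset.mul_sum, ← Finset.sum_mul, hsum, ite_mul, zero_mul,
            Finset.sum_ite_eq', Finset.mem_univ, if_true, ZMod.val_zero, pow_zero, one_mul, mul_zero, zero_add]
  -- invariance kills the phase
  have hmu : ∀ η : ℂ, IsPrimitiveRoot η p → hat (η ^ μ.val) D = hat η D := fun η hη => by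
    rw [hat_mul hη.pow_eq_one D hμ0]
    congr 1; funext i
    rw [← hμ (i * μ⁻¹), mul_comm μ, inv_mul_cancel_right₀ hμ0]
  have hA : A ≠ 0 := fun hA => pow_ne_zero p (hne ζ hζ) (by rw [heq ζ hζ, hA, zero_mul])
  have hs : -s = 0 := by
    have h1 := heq _ (prim_pow_val hζ hμ0)
    rw [hmu ζ hζ, heq ζ hζ, ← pow_val_mul hζ.pow_eq_one] at h1
    have h2 := hζ.pow_inj (ZMod.val_lt _) (ZMod.val_lt _) (mul_left_cancel₀ hA h1)
    have h3 : (-s) = μ * (-s) := ZMod.val_injective p h2
    have h4 : (μ - 1) * (-s) = 0 := by linear_combination -h3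
    exact (mul_eq_zero.mp h4).resolve_left (sub_ne_zero.mpr hμ1)
  have hfix : ∀ r : ZMod p, r ≠ 0 → ∀ i, D (i * r⁻¹) = D i := by
    intro r hr
    have h1 : hat (ζ ^ r.val) D ^ p = hat ζ D ^ p := by
      rw [heq _ (prim_pow_val hζ hr), heq ζ hζ, hs, ZMod.val_zero, pow_zero, pow_zero]
    obtain ⟨k, hk, hk'⟩ := hζ.eq_pow_of_pow_eq_one
      (show (hat (ζ ^ r.val) D / hat ζ D) ^ p = 1 by rw [div_pow, h1, div_self (pow_ne_zero _ (hne ζ hζ))])
    have h2 : hat ζ (fun i => D (i * r⁻¹)) = hat ζ (fun i => D (i - (k : ZMod p))) := by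
      rw [← hat_mul hζ.pow_eq_one D hr, hat_shift hζ.pow_eq_one, ZMod.val_natCast_of_lt hk, hk',
        div_mul_cancel₀ _ (hne ζ hζ)]
    have h3 := const_of_sum_eq_zero hζ (fun i => D (i * r⁻¹) - D (i - (k : ZMod p))) (by
      simp only [Int.cast_sub, sub_mul, Finset.sum_sub_distrib]
      exact sub_eq_zero.mpr h2)
    set κ := (k : ZMod p)
    have hκ : κ = 0 := by
      by_contra hκ
      have hstep : ∀ i, D (i - κ) = D (i - κ * μ⁻¹) := fun i => by
        have a1 := h3 i (μ * i)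
        rw [mul_assoc, hμ (i * r⁻¹), show μ * i - κ = μ * (i - κ * μ⁻¹) by field_simp, hμ] at a1
        linarith
      set δ := κ - κ * μ⁻¹ with hδdef
      have hδ : δ ≠ 0 := by
        intro h0
        have h4 : κ * (μ - 1) = 0 := by
          have : (κ - κ * μ⁻¹) * μ = 0 := by rw [← hδdef, h0, zero_mul]
          rw [sub_mul, inv_mul_cancel_right₀ hμ0] at this
          linear_combination this
        exact (mul_eq_zero.mp h4).elim hκ (sub_ne_zero.mpr hμ1)
      have hperiod : ∀ (m : ℕ) (i : ZMod p), D (i + m * δ) = D i := by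
        intro m
        induction m with
        | zero => intro i; simp
        | succ m ih =>
          intro i
          have := hstep (i + (m : ZMod p) * δ + κ)
          rw [add_sub_cancel_right, show i + (m : ZMod p) * δ + κ - κ * μ⁻¹ = i + (m + 1 : ℕ) * δ by
            rw [hδdef]; push_cast; ring] at this
          rw [← this, ih]
      obtain ⟨i, j, hij⟩ := hnc
      refine hij ?_
      have := hperiod ((j - i) * δ⁻¹).val i
      rwa [ZMod.natCast_zmod_val, inv_mul_cancel_right₀ hδ, add_sub_cancel, eq_comm] at this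
    intro i
    have a0 := h3 i 0
    simp only [hκ, sub_zero, zero_mul, sub_self] at a0
    linarith
  intro i j hi hj
  have h1 := hfix (i * j⁻¹) (mul_ne_zero hi (inv_ne_zero hj)) i
  rwa [mul_inv, inv_inv, ← mul_assoc, mul_inv_cancel₀ hi, one_mul, eq_comm] at h1

end CfsgLib.DoublyPrim
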