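/-
Doubly transitive groups of degree `p ^ 2 + 1`: the case where the kernel on blocks is not regular.
-/
import Cfsg.Agent.Lib.DoublyPrimitive.Small
import Cfsg.Agent.Lib.DoublyPrimitive.Fourier

set_option autoImplicit false

namespace CfsgLib.DoublyPrim

open MulAction

namespace Sys

variable {G Ω : Type*} [Group G] [Finite G] [Fintype Ω] [MulAction G Ω] [FaithfulSMul G Ω] [DecidableEq Ω]
  {p : ℕ} [hp : Fact p.Prime] (S : Sys G Ω p)

/-- The part of the kernel fixing a further point. -/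
def W (a b : Ω) : Subgroup G := S.Ker a ⊓ stabilizer G b

omit hp in
theorem mem_W {a b : Ω} {g : G} : g ∈ S.W a b ↔ g ∈ S.Ker a ∧ g • b = b := Iff.rfl

omit hp in
theorem W_conj (g : G) {a b : Ω} {u : G} (hu : u ∈ S.W a b) : g * u * g⁻¹ ∈ S.W (g • a) (g • b) :=
  S.Ker_smul_eq (S.mem_W.mp hu).1 (S.mem_W.mp hu).2

omit hp in
theorem W_map (g : G) (a b : Ω) : (S.W a b).map (MulAut.conj g).toMonoidHom = S.W (g • a) (g • b) := by
  ext u
  constructor
  · rintro ⟨v, hv, rfl⟩
    exact S.W_conj g hv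
  · intro hu
    refine ⟨g⁻¹ * u * g, ?_, by simp [mul_assoc]⟩
    have := S.W_conj g⁻¹ hu
    simpa using this

omit hp in
theorem card_W {a b c d : Ω} (hab : a ≠ b) (hcd : c ≠ d) : Nat.card ↥(S.W a b) = Nat.card ↥(S.W c d) := by
  obtain ⟨g, rfl, rfl⟩ := S.exists_map hab hcd
  rw [← S.W_map g a b]
  exact (Subgroup.card_map_of_injective (MulAut.conj g).injective).symm

omit hp in
theorem W_eq_of_le {a b c d : Ω} (hab : a ≠ b) (hcd : c ≠ d) (h : S.W a b ≤ S.W c d) : S.W a b = S.W c d :=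
  Subgroup.eq_of_le_of_card_ge h (S.card_W hab hcd).ge

omit hp in
theorem W_eq_of_fixed {a b y : Ω} (hab : a ≠ b) (hay : a ≠ y) (h : ∀ u ∈ S.W a b, u • y = y) :
    S.W a b = S.W a y :=
  S.W_eq_of_le hab hay fun u hu => S.mem_W.mpr ⟨(S.mem_W.mp hu).1, h u hu⟩

/-- The group `W` fixes at most one point in a block. -/
theorem W_unique {a b : Ω} (hab : a ≠ b) (hW : S.W a b ≠ ⊥) {y z : Ω} (hay : a ≠ y) (hy : ∀ u ∈ S.W a b, u • y = y)
    (hz : z ∈ S.bl a y) (hzf : ∀ u ∈ S.W a b, u • z = z) : z = y := by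
  obtain ⟨D⟩ := S.nonempty_data a
  obtain ⟨i, rfl⟩ := D.shift.coord y z hay hz
  by_contra hne
  have hi0 : i ≠ 0 := fun e => hne (by rw [e, zp_zero, one_smul])
  set q := zp D.k i with hq
  have hqa : q • a = a := (S.mem_Ker.mp (zp_mem _ _ D.shift.mem i)).1
  have h1 : S.W a b = S.W a y := S.W_eq_of_fixed hab hay hy
  have h2 : S.W a b = S.W a (q • y) := S.W_eq_of_fixed hab (smul_ne_fixed hqa hay) hzf
  have hn : ∀ u ∈ S.W a b, q * u * q⁻¹ ∈ S.W a b := fun u hu => by
    have := S.W_conj q (h1 ▸ hu)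
    rw [hqa] at this
    exact h2 ▸ this
  have hpow : ∀ n : ℕ, ∀ u ∈ S.W a b, q ^ n * u * (q ^ n)⁻¹ ∈ S.W a b := by
    intro n
    induction n with
    | zero => intro u hu; simpa using hu
    | succ n ih =>
      intro u hu
      have := hn _ (ih u hu)
      rw [pow_succ']
      simpa [mul_assoc] using this
  have hk : D.k = q ^ (i⁻¹).val := by
    rw [hq, zp, ← pow_mul, ← zp_natCast D.shift.pow_p, Nat.cast_mul, ZMod.natCast_zmod_val, ZMod.natCast_zmod_val,
      mul_inv_cancel₀ hi0, zp_one]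
  refine hW ((Subgroup.eq_bot_iff_forall _).mpr fun u hu =>
    D.shift.eq_one_of_normalized (S.W a b) inf_le_left (fun v hv => ?_) ?_ hu)
  · rw [hk]; exact hpow _ v hv
  · exact fun hd => S.not_dvd_stab hab (hd.trans (Subgroup.card_dvd_of_le fun v hv =>
      ⟨(S.mem_Ker.mp (S.mem_W.mp hv).1).1, hv.2⟩))

/-- An element of `W` multiplying the rotation fixes exactly one point in each block. -/
theorem fix_unique {a b : Ω} {k : G} (hk : S.Shift a k) (hab : a ≠ b) {g : G} (hg : g ∈ S.W a b) (hg1 : g ≠ 1)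
    {μ : ZMod p} (hμ : g * k * g⁻¹ = zp k μ) {y : Ω} (hay : a ≠ y) :
    μ ≠ 0 ∧ μ ≠ 1 ∧ ∃ c ∈ S.bl a y, g • c = c ∧ ∀ z ∈ S.bl a y, g • z = z → z = c := by
  obtain ⟨hgK, hgb⟩ := S.mem_W.mp hg
  have hμ1 : μ ≠ 1 := fun e => hg1 (hk.eq_one_of_commute hgK (by rw [e, zp_one] at hμ; exact mul_inv_eq_iff_eq_mul.mp hμ) hab hgb)
  have hμ0 : μ ≠ 0 := fun e => hk.ne_one hab (by rw [e, zp_zero, conj_eq_one_iff] at hμ; exact hμ)
  obtain ⟨j, hj⟩ := hk.coord y _ hay ((S.mem_Ker.mp hgK).2 y hay)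
  have hmove : ∀ i, g • zp k i • y = zp k (μ * i + j) • y := fun i => by
    rw [zp_add hk.pow_p, mul_smul, hj, ← zp_conj hk.pow_p hμ, mul_smul, mul_smul, inv_smul_smul]
  set i0 := j * (1 - μ)⁻¹
  have h1μ : (1 : ZMod p) - μ ≠ 0 := sub_ne_zero.mpr (Ne.symm hμ1)
  have hi0 : μ * i0 + j = i0 := by
    have : i0 * (1 - μ) = j := inv_mul_cancel_right₀ h1μ j
    linear_combination -this
  refine ⟨hμ0, hμ1, zp k i0 • y, hk.mem_bl hay i0, by rw [hmove, hi0], fun z hz hgz => ?_⟩
  obtain ⟨i, rfl⟩ := hk.coord y z hay hz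
  rw [hmove] at hgz
  have h1 := hk.inj hay hgz
  have h2 : (i - i0) * (1 - μ) = 0 := by linear_combination -h1 + hi0
  rw [sub_eq_zero.mp ((mul_eq_zero.mp h2).resolve_right h1μ)]

/-- If the kernel does not normalise the rotation it is doubly transitive on each block. -/
theorem two_trans_block {a b : Ω} {k : G} (hk : S.Shift a k) (hab : a ≠ b)
    (hn : ¬ ∀ g ∈ S.Ker a, ∃ μ : ZMod p, g * k * g⁻¹ = zp k μ) {i j : ZMod p} (hij : i ≠ j) :
    ∃ g ∈ S.Ker a, g • b = zp k i • b ∧ g • k • b = zp k j • b := by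
  classical
  let A : Type _ := ↥(S.bl a b)
  letI : MulAction ↥(S.Ker a) A :=
    { smul := fun g z => ⟨(g : G) • z.1, by
        have := (S.mem_Ker.mp g.2).2 z.1 (S.ne_of_mem hab z.2)
        rwa [S.eq a b z.1 hab z.2] at this⟩
      one_smul := fun z => Subtype.ext (one_smul G z.1)
      mul_smul := fun g h z => Subtype.ext (mul_smul (g : G) (h : G) z.1) }
  haveI : MulAction.IsPretransitive ↥(S.Ker a) A := ⟨fun ⟨y, hy⟩ ⟨z, hz⟩ => by
    obtain ⟨l, hl⟩ := hk.coord y z (S.ne_of_mem hab hy) ((S.eq a b y hab hy).symm ▸ hz)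
    exact ⟨⟨zp k l, zp_mem k _ hk.mem l⟩, Subtype.ext hl⟩⟩
  by_cases h2 : MulAction.IsMultiplyPretransitive ↥(S.Ker a) A 2
  · have hk1 : zp k (1 : ZMod p) • b ∈ S.bl a b := hk.mem_bl hab 1
    obtain ⟨g, hg1, hg2⟩ := (is_two_pretransitive_iff.mp h2)
      (show (⟨b, S.self_mem a b hab⟩ : A) ≠ ⟨_, hk1⟩ from fun e => one_ne_zero (α := ZMod p)
        (hk.free b hab 1 (congrArg Subtype.val e).symm))
      (show (⟨_, hk.mem_bl hab i⟩ : A) ≠ ⟨_, hk.mem_bl hab j⟩ from fun e => hij (hk.inj hab (congrArg Subtype.val e)))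
    refine ⟨g, g.2, congrArg Subtype.val hg1, ?_⟩
    have := congrArg Subtype.val hg2
    rwa [show (k • b) = zp k (1 : ZMod p) • b by rw [zp_one]]
  · exfalso
    obtain ⟨e, he⟩ := CfsgLib.PrimeDegree.affine_coordinates (p := p) (G := ↥(S.Ker a)) (α := A)
      (by rw [Nat.card_eq_fintype_card, Fintype.card_coe, S.size a b hab]) h2
    apply hn
    obtain ⟨u, v, huv⟩ := he ⟨k, hk.mem⟩
    have hu : u = 1 := by
      by_contra hu
      have h1u : (1 : ZMod p) - u ≠ 0 := sub_ne_zero.mpr (Ne.symm hu)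
      have hx : u * (v * (1 - u)⁻¹) + v = v * (1 - u)⁻¹ := by
        have : v * (1 - u)⁻¹ * (1 - u) = v := inv_mul_cancel_right₀ h1u v
        linear_combination -this
      have := congrArg Subtype.val (huv (v * (1 - u)⁻¹))
      rw [hx] at this
      exact one_ne_zero (α := ZMod p) (hk.free _ (S.ne_of_mem hab (e _).2) 1 (by rw [zp_one]; exact this))
    have hkn : ∀ (n : ℕ) (x : ZMod p), k ^ n • (e x).1 = (e (x + n * v)).1 := by
      intro n
      induction n with
      | zero => intro x; simp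
      | succ n ih =>
        intro x
        have := congrArg Subtype.val (huv (x + n * v))
        rw [pow_succ', mul_smul, ih, show k • (e (x + n * v)).1 = (e (u * (x + n * v) + v)).1 from this, hu]
        congr 2; push_cast; ring
    intro g hg
    obtain ⟨r, s, hrs⟩ := he ⟨g, hg⟩
    refine ⟨r, (inv_mul_eq_one.mp ?_).symm⟩
    refine hk.eq_one_of_fix_block ((S.Ker a).mul_mem ((S.Ker a).inv_mem (zp_mem k _ hk.mem r))
      ((S.Ker a).mul_mem ((S.Ker a).mul_mem hg hk.mem) ((S.Ker a).inv_mem hg))) hab fun z hz => ?_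
    obtain ⟨x, hx⟩ := e.surjective ((⟨g⁻¹, (S.Ker a).inv_mem hg⟩ : ↥(S.Ker a)) • (⟨z, hz⟩ : A))
    have hgx : g • (e x).1 = z := by rw [hx]; exact smul_inv_smul g z
    have h1 : g • k • (e x).1 = (e (r * (x + v) + s)).1 := by
      have a1 := congrArg Subtype.val (huv x)
      have a2 := congrArg Subtype.val (hrs (u * x + v))
      rw [hu, one_mul] at a1 a2
      rw [show k • (e x).1 = (e (x + v)).1 from a1]
      exact a2
    have h2' : z = (e (r * x + s)).1 := hgx.symm.trans (congrArg Subtype.val (hrs x))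
    rw [mul_smul, mul_smul, mul_smul, show g⁻¹ • z = (e x).1 from inv_smul_eq_iff.mpr hgx.symm, h1,
      inv_smul_eq_iff]
    rw [h2', zp, hkn, ZMod.natCast_zmod_val]
    congr 2; ring

/-- Some element of `W` normalises the rotation without centralising it. -/
theorem exists_mult {a b : Ω} {k : G} (hk : S.Shift a k) (hab : a ≠ b) (hW : S.W a b ≠ ⊥) :
    ∃ g ∈ S.W a b, g ≠ 1 ∧ ∃ μ : ZMod p, g * k * g⁻¹ = zp k μ := by
  classical
  have hdvd : ¬ p ∣ Nat.card ↥(S.W a b) := fun hd => S.not_dvd_stab hab (hd.trans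
    (Subgroup.card_dvd_of_le fun v hv => ⟨(S.mem_Ker.mp (S.mem_W.mp hv).1).1, hv.2⟩))
  set K := S.Ker a
  let k' : ↥K := ⟨k, hk.mem⟩
  have hk' : k' ^ p = 1 := Subtype.ext hk.pow_p
  have hord : orderOf k' = p := orderOf_eq_prime hk' fun e => hk.ne_one hab (congrArg Subtype.val e)
  set Q := Subgroup.zpowers k'
  have hQc : Nat.card ↥Q = p := by rw [Nat.card_zpowers, hord]
  have horb : MulAction.orbit ↥K b = (S.bl a b : Set Ω) := by
    ext z
    constructor
    · rintro ⟨u, rfl⟩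
      exact Finset.mem_coe.mpr ((S.mem_Ker.mp u.2).2 b hab)
    · intro hz
      obtain ⟨i, rfl⟩ := hk.coord b z hab (Finset.mem_coe.mp hz)
      exact ⟨⟨zp k i, zp_mem k _ hk.mem i⟩, rfl⟩
  have hcK : Nat.card ↥K = p * Nat.card ↥(S.W a b) := by
    rw [← (stabilizer ↥K b).card_mul_index, index_stabilizer, horb, Set.ncard_coe_finset, S.size a b hab, mul_comm]
    congr 1
    rw [show stabilizer ↥K b = (S.W a b).subgroupOf K by
      ext u; simp [Subgroup.mem_subgroupOf, W, K, Subgroup.mem_inf]; rfl]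
    exact Nat.card_congr (Subgroup.subgroupOfEquivOfLe inf_le_left).toEquiv
  have hidx : Q.index = Nat.card ↥(S.W a b) := by
    have := Q.card_mul_index
    rw [hQc, hcK] at this
    exact Nat.eq_of_mul_eq_mul_left hp.out.pos this
  have hQp : IsPGroup p ↥Q := IsPGroup.of_card (n := 1) (by rw [hQc, pow_one])
  set P : Sylow p ↥K := hQp.toSylow (hidx ▸ hdvd)
  have hPQ : (P : Subgroup ↥K) = Q := rfl
  by_cases hN : Subgroup.normalizer (P : Set ↥K) ≤ Subgroup.centralizer (P : Set ↥K)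
  · exfalso
    have hco := MonoidHom.ker_transferSylow_isComplement' P hN
    set M := (MonoidHom.transferSylow P hN).ker
    have hMc : Nat.card ↥M = Nat.card ↥(S.W a b) := by
      have := hco.card_mul
      rw [hPQ, hQc, hcK, mul_comm p] at this
      exact Nat.eq_of_mul_eq_mul_right hp.out.pos this
    have h1 : ∀ g ∈ M.map K.subtype, g = 1 := fun g hg => by
      refine hk.eq_one_of_normalized (M.map K.subtype) (Subgroup.map_subtype_le M) ?_ ?_ hg
      · rintro _ ⟨u, hu, rfl⟩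
        exact ⟨k' * u * k'⁻¹, (inferInstance : M.Normal).conj_mem u hu k', rfl⟩
      · rw [← Nat.card_congr (M.equivMapOfInjective K.subtype K.subtype_injective).toEquiv, hMc]; exact hdvd
    refine hW ?_
    rw [← Subgroup.card_eq_one, ← hMc, Nat.card_congr (M.equivMapOfInjective K.subtype K.subtype_injective).toEquiv,
      Subgroup.card_eq_one, Subgroup.eq_bot_iff_forall]
    exact h1
  · obtain ⟨n, hn, hnc⟩ := SetLike.not_le_iff_exists.mp hN
    have hconj : n * k' * n⁻¹ ∈ Q := (Subgroup.mem_normalizer_iff.mp hn k').mp (Subgroup.mem_zpowers k')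
    obtain ⟨μ, hμ⟩ := mem_zpowers_zp hk' hconj
    obtain ⟨i, hi⟩ := hk.coord b _ hab ((S.mem_Ker.mp n.2).2 b hab)
    have hzp : zp k' μ = (⟨zp k μ, zp_mem k _ hk.mem μ⟩ : ↥K) := Subtype.ext (by simp [zp, k'])
    have hμ' : (n : G) * k * (n : G)⁻¹ = zp k μ := by
      have := congrArg Subtype.val (hμ.trans hzp)
      simpa using this
    set q := zp k i
    refine ⟨q⁻¹ * n, S.mem_W.mpr ⟨K.mul_mem (K.inv_mem (zp_mem k _ hk.mem i)) n.2,
      by rw [mul_smul, ← hi, inv_smul_smul]⟩, fun e => hnc ?_, μ, ?_⟩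
    · have hnq : (n : G) = q := (inv_mul_eq_one.mp e).symm
      have hnQ : n ∈ Q := by
        rw [show n = k' ^ i.val from Subtype.ext (by rw [hnq]; simp [q, zp, k'])]
        exact Q.pow_mem (Subgroup.mem_zpowers k') _
      refine Subgroup.mem_centralizer_iff.mpr fun x hx => ?_
      obtain ⟨r, rfl⟩ := hx
      obtain ⟨t, rfl⟩ := hnQ
      exact (Commute.zpow_zpow_self k' r t)
    · calc q⁻¹ * n * k * (q⁻¹ * n)⁻¹ = q⁻¹ * ((n : G) * k * (n : G)⁻¹) * q := by group
        _ = zp k (-i) * zp k μ * zp k i := by rw [hμ', zp_neg hk.pow_p]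
        _ = zp k μ := by rw [← zp_add hk.pow_p, ← zp_add hk.pow_p]; congr 1; ring

/-- The group `W` fixes a point in every block. -/
theorem exists_fixed {a b : Ω} (hab : a ≠ b) (hW : S.W a b ≠ ⊥) {y : Ω} (hay : a ≠ y) :
    ∃ c ∈ S.bl a y, ∀ u ∈ S.W a b, u • c = c := by
  classical
  obtain ⟨D⟩ := S.nonempty_data a
  have hk := D.shift
  set k := D.k
  obtain ⟨g, hg, hg1, μ, hμ⟩ := S.exists_mult hk hab hW
  obtain ⟨hμ0, hμ1, -⟩ := S.fix_unique hk hab hg hg1 hμ hab
  by_cases hn : ∀ u ∈ S.Ker a, ∃ ν : ZMod p, u * k * u⁻¹ = zp k ν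
  · obtain ⟨-, -, c, hc, hgc, huniq⟩ := S.fix_unique hk hab hg hg1 hμ hay
    refine ⟨c, hc, fun u hu => huniq _ ?_ ?_⟩
    · have := (S.mem_Ker.mp (S.mem_W.mp hu).1).2 c (S.ne_of_mem hay hc)
      rwa [S.eq a y c hay hc] at this
    · have hcomm : g * u = u * g := by
        obtain ⟨hgK, hgb⟩ := S.mem_W.mp hg
        obtain ⟨huK, hub⟩ := S.mem_W.mp hu
        obtain ⟨ν, hν⟩ := hn u huK
        set w := (u * g)⁻¹ * (g * u)
        have hw : w = 1 := by
          refine hk.eq_one_of_commute (g := w) ((S.Ker a).mul_mem ((S.Ker a).inv_mem ((S.Ker a).mul_mem huK hgK))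
            ((S.Ker a).mul_mem hgK huK)) ?_ hab ?_
          · have e1 : (g * u) * k * (g * u)⁻¹ = zp k (μ * ν) := by
              rw [← zp_conj hk.pow_p hμ, ← hν]; group
            have e2 : (u * g) * k * (u * g)⁻¹ = zp k (μ * ν) := by
              rw [mul_comm μ, ← zp_conj hk.pow_p hν, ← hμ]; group
            have e3 := e1.trans e2.symm
            calc w * k = (u * g)⁻¹ * ((g * u) * k * (g * u)⁻¹) * (g * u) := by simp only [w]; group
              _ = (u * g)⁻¹ * ((u * g) * k * (u * g)⁻¹) * (g * u) := by rw [e3]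
              _ = k * w := by simp only [w]; group
          · simp only [w]; rw [mul_smul, mul_smul, hub, hgb, inv_smul_eq_iff, mul_smul, hgb, hub]
        exact (inv_mul_eq_one.mp hw).symm
      rw [← mul_smul, hcomm, mul_smul, hgc]
  -- now the kernel is doubly transitive on blocks
  obtain ⟨x0, hx0, hx0B⟩ := S.exists_mem_notMem hab
  have hax0 : a ≠ x0 := (Finset.ne_of_mem_erase hx0).symm
  obtain ⟨-, -, c, hc, hgc, -⟩ := S.fix_unique hk hab hg hg1 hμ hax0
  have hac : a ≠ c := S.ne_of_mem hax0 hc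
  have hbl : S.bl a c = S.bl a x0 := S.eq a x0 c hax0 hc
  obtain ⟨π, hπ, hπb⟩ := D.reg b c hab hac
  have hπa : π • a = a := D.le hπ
  have hπk : ∀ i : ZMod p, π * zp k i = zp k i * π := fun i => D.comm _ hπ _ (zp_mem k _ D.memk i)
  have hπc : ∀ i : ZMod p, π • zp k i • b = zp k i • c := fun i => by rw [← mul_smul, hπk, mul_smul, hπb]
  have hcoord : ∀ (h : ↥(S.Ker a)) (i : ZMod p), ∃ j : ZMod p, zp k j • b = (h : G) • zp k i • b := by
    intro h i
    refine hk.coord b _ hab ?_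
    have hy := hk.mem_bl hab i
    have := (S.mem_Ker.mp h.2).2 _ (S.ne_of_mem hab hy)
    rwa [S.eq a b _ hab hy] at this
  choose φ₀ hφ using hcoord
  have hφi : ∀ h, Function.Injective (φ₀ h) := fun h i j e => hk.inj hab (smul_left_cancel (h : G) (by
    rw [← hφ h i, ← hφ h j, e]))
  let φ : ↥(S.Ker a) → Equiv.Perm (ZMod p) := fun h => Equiv.ofBijective (φ₀ h) (Finite.injective_iff_bijective.mp (hφi h))
  have hφ' : ∀ h i, zp k (φ h i) • b = (h : G) • zp k i • b := hφ
  have hπinv : π⁻¹ • a = a := inv_smul_eq_iff.mpr hπa.symm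
  let θ : ↥(S.Ker a) → ↥(S.Ker a) := fun h => ⟨π⁻¹ * h * π, by simpa using S.conj_mem_Ker hπinv h.2⟩
  have hθn : ∀ (n : ℕ) (h : ↥(S.Ker a)), ((θ^[n] h : ↥(S.Ker a)) : G) = (π ^ n)⁻¹ * h * π ^ n := by
    intro n
    induction n with
    | zero => intro h; simp
    | succ n ih =>
      intro h
      rw [Function.iterate_succ_apply']
      show π⁻¹ * _ * π = _
      rw [ih, pow_succ]
      group
  let D₁ : ZMod p → ℤ := fun i => if zp k i • c ∈ S.bl b a then 1 else 0
  have hD : ∀ i j, D₁ i = D₁ j ↔ (zp k i • c ∈ S.bl b a ↔ zp k j • c ∈ S.bl b a) := fun i j => by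
    simp only [D₁]; split_ifs with h1 h2 <;> simp_all
  have hrel : ∀ i j, (zp k j • c ∈ S.bl (zp k i • b) a ↔ zp k (j - i) • c ∈ S.bl b a) := fun i j => by
    rw [← S.smul_mem_iff (g := zp k i) (S.mem_Ker.mp (zp_mem k _ hk.mem i)).1 hab.symm, ← mul_smul,
      ← zp_add hk.pow_p, add_sub_cancel]
  have hinv : ∀ h i j, D₁ (φ (θ h) j - φ h i) = D₁ (j - i) := fun h i j => by
    rw [hD, ← hrel, ← hrel]
    have e1 : (h : G) • zp k j • c = zp k (φ (θ h) j) • c := by
      rw [← hπc j, ← hπc, hφ' (θ h) j]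
      show _ = π • (π⁻¹ * (h : G) * π) • zp k j • b
      rw [mul_smul, mul_smul, smul_inv_smul]
    rw [← e1, hφ' h i]
    refine S.smul_mem_iff (S.mem_Ker.mp h.2).1 (fun e => ?_)
    exact S.notMem a b hab (e ▸ hk.mem_bl hab i)
  have hπp : ∃ s : ZMod p, π ^ p = zp k s := by
    set Pk := (Subgroup.zpowers k).subgroupOf D.P
    haveI : Pk.Normal := ⟨fun x hx y => by
      rwa [show y * x * y⁻¹ = x from by
        rw [mul_inv_eq_iff_eq_mul]; exact Subtype.ext (D.comm _ y.2 _ x.2)]⟩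
    have hle : Subgroup.zpowers k ≤ D.P := Subgroup.zpowers_le.mpr D.memk
    have hc1 : Nat.card ↥Pk = p := by
      rw [Nat.card_congr (Subgroup.subgroupOfEquivOfLe hle).toEquiv, Nat.card_zpowers]
      exact orderOf_eq_prime hk.pow_p (hk.ne_one hab)
    have hc2 : Pk.index = p := by
      have := Pk.card_mul_index
      rw [hc1, D.card, pow_two] at this
      exact Nat.eq_of_mul_eq_mul_left hp.out.pos this
    have := Pk.pow_index_mem ⟨π, hπ⟩
    rw [hc2] at this
    exact mem_zpowers_zp hk.pow_p (show π ^ p ∈ Subgroup.zpowers k from this)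
  obtain ⟨s, hs⟩ := hπp
  have hper : ∀ h j, φ (θ^[p] h) j = φ h (j + s) - s := fun h j => by
    refine hk.inj hab ?_
    rw [hφ', hθn, hs, mul_smul, mul_smul, ← mul_smul (zp k s), ← zp_add hk.pow_p, add_comm s, ← hφ', ← zp_neg hk.pow_p,
      ← mul_smul, ← zp_add hk.pow_p, sub_eq_neg_add]
  have htrans : ∀ i j : ZMod p, i ≠ j → ∃ h, φ h 0 = i ∧ φ h 1 = j := fun i j hij => by
    obtain ⟨u, hu, hu1, hu2⟩ := S.two_trans_block hk hab hn hij
    refine ⟨⟨u, hu⟩, hk.inj hab ?_, hk.inj hab ?_⟩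
    · rw [hφ', zp_zero, one_smul]; exact hu1
    · rw [hφ', zp_one]; exact hu2
  have hμinv : ∀ i, D₁ (μ * i) = D₁ i := fun i => by
    rw [hD]
    have e : g • zp k i • c = zp k (μ * i) • c := by
      rw [← zp_conj hk.pow_p hμ, mul_smul, mul_smul, inv_smul_eq_iff.mpr hgc.symm]
    rw [← e]
    have := S.smul_mem_iff (g := g) (z := zp k i • c) (S.mem_Ker.mp (S.mem_W.mp hg).1).1 hab.symm
    rwa [(S.mem_W.mp hg).2] at this
  have hnc : ∃ i j, D₁ i ≠ D₁ j := by
    by_contra hno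
    push Not at hno
    obtain ⟨i0, hi0⟩ := hk.coord c x0 hac (hbl ▸ S.self_mem a x0 hax0)
    have hall : S.bl a c ⊆ (S.bl b a).erase a := fun z hz => by
      obtain ⟨i, rfl⟩ := hk.coord c z hac hz
      refine Finset.mem_erase.mpr ⟨(S.ne_of_mem hac hz).symm, ((hD i i0).mp (hno i i0)).mpr ?_⟩
      rw [hi0]; exact Finset.mem_of_mem_erase hx0
    have := Finset.card_le_card hall
    rw [Finset.card_erase_of_mem (S.self_mem b a hab.symm), S.size b a hab.symm, S.size a c hac] at this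
    have := hp.out.pos
    omega
  have hconst := constant_off_zero φ θ D₁ hinv s hper htrans μ hμ0 hμ1 hμinv hnc
  -- hence the point of the block is fixed
  have hfixc : ∀ u ∈ S.W a b, u • c = c := by
    intro u hu
    obtain ⟨huK, hub⟩ := S.mem_W.mp hu
    obtain ⟨i, hi⟩ := hk.coord c _ hac ((S.mem_Ker.mp huK).2 c hac)
    rcases eq_or_ne i 0 with rfl | hi0
    · rw [← hi, zp_zero, one_smul]
    exfalso
    have h0 : D₁ i = D₁ 0 := by
      rw [hD, hi, zp_zero, one_smul]
      have := S.smul_mem_iff (g := u) (z := c) (S.mem_Ker.mp huK).1 hab.symm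
      rwa [hub] at this
    obtain ⟨l, m, hlm⟩ := hnc
    have hall : ∀ l, D₁ l = D₁ 0 := fun l => by
      rcases eq_or_ne l 0 with rfl | hl
      · rfl
      · exact (hconst l i hl hi0).trans h0
    exact hlm ((hall l).trans (hall m).symm)
  have hWn : ∀ u ∈ S.W a b, π⁻¹ * u * π ∈ S.W a b := fun u hu => by
    have := S.W_conj π⁻¹ ((S.W_eq_of_fixed hab hac hfixc) ▸ hu)
    rwa [hπinv, ← hπb, inv_smul_smul, inv_inv] at this
  have hfixn : ∀ n : ℕ, ∀ u ∈ S.W a b, u • π ^ n • b = π ^ n • b := by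
    intro n
    induction n with
    | zero => intro u hu; rw [pow_zero, one_smul]; exact (S.mem_W.mp hu).2
    | succ n ih =>
      intro u hu
      have h1 := ih _ (hWn u hu)
      rw [mul_smul, mul_smul, ← mul_smul π (π ^ n), ← pow_succ', inv_smul_eq_iff, ← mul_smul π (π ^ n),
        ← pow_succ'] at h1
      exact h1
  -- powers of the regular element reach all blocks
  have hne : ∀ n : ℕ, a ≠ π ^ n • b := fun n => smul_ne_fixed ((stabilizer G a).pow_mem hπa n) hab
  have hinj : ∀ n m : ℕ, n < m → m < p → π ^ m • b ∉ S.bl a (π ^ n • b) := by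
    intro n m hnm hmp h
    obtain ⟨i, hi⟩ := hk.coord _ _ (hne n) h
    have h1 : (π ^ (m - n))⁻¹ * zp k i = 1 := by
      refine D.free hab (D.P.mul_mem (D.P.inv_mem (D.P.pow_mem hπ _)) (zp_mem k _ D.memk i)) ?_
      have hcn : zp k i * π ^ n = π ^ n * zp k i := D.comm _ (zp_mem k _ D.memk i) _ (D.P.pow_mem hπ n)
      rw [← mul_smul, hcn, show m = n + (m - n) by omega, pow_add, mul_smul, mul_smul] at hi
      rw [mul_smul, smul_left_cancel _ hi, inv_smul_smul]
    have hmem : π ^ (m - n) ∈ Subgroup.zpowers k := by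
      rw [inv_mul_eq_one.mp h1]; exact Subgroup.pow_mem _ (Subgroup.mem_zpowers k) _
    have hpmem : π ^ p ∈ Subgroup.zpowers k := hs ▸ Subgroup.pow_mem _ (Subgroup.mem_zpowers k) _
    have hcop : (m - n).Coprime p := ((hp.out.coprime_iff_not_dvd).mpr fun hd => by
      have := Nat.le_of_dvd (by omega) hd; omega).symm
    have hπk' : π ∈ Subgroup.zpowers k := by
      have hb := Nat.gcd_eq_gcd_ab (m - n) p
      rw [hcop.gcd_eq_one] at hb
      rw [← zpow_one π, show (1 : ℤ) = _ from hb, zpow_add, zpow_mul, zpow_mul, zpow_natCast, zpow_natCast]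
      exact mul_mem (Subgroup.zpow_mem _ hmem _) (Subgroup.zpow_mem _ hpmem _)
    obtain ⟨l, hl⟩ := mem_zpowers_zp hk.pow_p hπk'
    apply hx0B
    have hcB : c ∈ S.bl a b := by rw [← hπb, hl]; exact hk.mem_bl hab l
    rw [← S.eq a b c hab hcB, hbl]
    exact S.self_mem a x0 hax0
  have hblocks : (Finset.range p).image (fun n => S.bl a (π ^ n • b)) = (Finset.univ.erase a).image (S.bl a) := by
    refine Finset.eq_of_subset_of_card_le (fun l hl => ?_) ?_
    · obtain ⟨n, -, rfl⟩ := Finset.mem_image.mp hl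
      exact Finset.mem_image_of_mem _ (Finset.mem_erase.mpr ⟨(hne n).symm, Finset.mem_univ _⟩)
    · rw [S.card_blocks a, Finset.card_image_of_injOn, Finset.card_range]
      intro n hn' m hm e
      rw [Finset.mem_coe, Finset.mem_range] at hn' hm
      have e' : S.bl a (π ^ n • b) = S.bl a (π ^ m • b) := e
      by_contra hnm
      rcases lt_or_gt_of_ne hnm with h | h
      · exact hinj n m h hm (e' ▸ S.self_mem a _ (hne m))
      · exact hinj m n h hn' (e' ▸ S.self_mem a _ (hne n))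
  have hy : S.bl a y ∈ (Finset.range p).image (fun n => S.bl a (π ^ n • b)) := by
    rw [hblocks]; exact Finset.mem_image_of_mem _ (Finset.mem_erase.mpr ⟨hay.symm, Finset.mem_univ _⟩)
  obtain ⟨n, -, hn'⟩ := Finset.mem_image.mp hy
  exact ⟨π ^ n • b, hn' ▸ S.self_mem a _ (hne n), hfixn n⟩

/-- A non-regular kernel is impossible. -/
theorem nonregular_false (S : Sys G Ω p) {a b : Ω} (hab : a ≠ b) (hW : S.W a b ≠ ⊥) : False := by
  classical
  have hWall : ∀ x y, x ≠ y → S.W x y ≠ ⊥ := fun x y hxy h => hW (by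
    rw [← Subgroup.card_eq_one] at h ⊢; rw [S.card_W hab hxy, h])
  let F : Ω → Ω → Finset Ω := fun x y => Finset.univ.filter fun z => x ≠ z ∧ ∀ u ∈ S.W x y, u • z = z
  let L : Ω → Ω → Finset Ω := fun x y => insert x (F x y)
  have hFmem : ∀ {x y z}, z ∈ F x y ↔ x ≠ z ∧ ∀ u ∈ S.W x y, u • z = z := fun {x y z} => by
    simp only [F, Finset.mem_filter, Finset.mem_univ, true_and]
  have hFcard : ∀ x y, x ≠ y → (F x y).card = p := by
    intro x y hxy
    rw [← S.card_blocks x]
    refine Finset.card_bij (fun z _ => S.bl x z) (fun z hz => Finset.mem_image_of_mem _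
      (Finset.mem_erase.mpr ⟨(hFmem.mp hz).1.symm, Finset.mem_univ _⟩)) (fun z hz z' hz' e => ?_) (fun l hl => ?_)
    · exact S.W_unique hxy (hWall x y hxy) (hFmem.mp hz').1 (hFmem.mp hz').2 (e ▸ S.self_mem x z (hFmem.mp hz).1) (hFmem.mp hz).2
    · obtain ⟨w, hw, rfl⟩ := Finset.mem_image.mp hl
      have hxw : x ≠ w := (Finset.ne_of_mem_erase hw).symm
      obtain ⟨c, hc, hcf⟩ := S.exists_fixed hxy (hWall x y hxy) hxw
      exact ⟨c, hFmem.mpr ⟨S.ne_of_mem hxw hc, hcf⟩, S.eq x w c hxw hc⟩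
  have hFy : ∀ x y, x ≠ y → y ∈ F x y := fun x y hxy => hFmem.mpr ⟨hxy, fun u hu => (S.mem_W.mp hu).2⟩
  have hL : ∀ x y, x ≠ y → x ∈ L x y ∧ y ∈ L x y ∧ (L x y).card = p + 1 := fun x y hxy =>
    ⟨Finset.mem_insert_self _ _, Finset.mem_insert_of_mem (hFy x y hxy), by
      rw [Finset.card_insert_of_notMem (fun h => (hFmem.mp h).1 rfl), hFcard x y hxy]⟩
  have hext : ∀ x y z, x ≠ y → z ∈ L x y → z ≠ x → L x z = L x y := by
    intro x y z hxy hz hzx
    obtain ⟨hxz, hfix⟩ := hFmem.mp ((Finset.mem_insert.mp hz).resolve_left hzx)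
    simp only [L, F, S.W_eq_of_fixed hxy hxz hfix]
  have hLmap : ∀ (g : G) (x y : Ω), (L x y).image (g • ·) = L (g • x) (g • y) := by
    intro g x y
    simp only [L, Finset.image_insert]
    congr 1
    ext z
    simp only [Finset.mem_image]
    rw [hFmem]
    constructor
    · rintro ⟨w, hw, rfl⟩
      obtain ⟨hxw, hwf⟩ := hFmem.mp hw
      refine ⟨fun e => hxw (smul_left_cancel g e), fun u hu => ?_⟩
      have h1 := hwf _ (by simpa using S.W_conj g⁻¹ hu)
      rwa [mul_smul, mul_smul, inv_smul_eq_iff] at h1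
    · rintro ⟨hxz, hzf⟩
      refine ⟨g⁻¹ • z, hFmem.mpr ⟨fun e => hxz (by rw [e, smul_inv_smul]), fun u hu => ?_⟩, smul_inv_smul g z⟩
      have h1 := hzf _ (S.W_conj g hu)
      rw [mul_smul, mul_smul] at h1
      exact eq_inv_smul_iff.mpr h1
  suffices hId : (∀ x y, x ≠ y → L x y = L y x) ∨ ∀ x y, x ≠ y → L x y = insert y (S.bl y x) by
    refine no_lines S.prime S.card L hL ?_ hext
    rcases hId with h | h
    · exact h
    intro x y hxy
    obtain ⟨z, hz, -⟩ := S.exists_mem_notMem hxy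
    have hzx : z ≠ x := Finset.ne_of_mem_erase hz
    have hzy : z ≠ y := fun e => S.notMem y x hxy.symm (by nth_rewrite 2 [← e]; exact Finset.mem_of_mem_erase hz)
    have hzL : z ∈ L x y := by rw [h x y hxy]; exact Finset.mem_insert_of_mem (Finset.mem_of_mem_erase hz)
    have e1 : L x z = L x y := hext x y z hxy hzL hzx
    have hy : y ∈ S.bl z x := by
      have := (hL x y hxy).2.1
      rw [← e1, h x z hzx.symm] at this
      exact (Finset.mem_insert.mp this).resolve_left hzy.symm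
    have e2 : L y z = L x y := by rw [h y z hzy.symm, S.eq z x y hzx hy, ← e1, h x z hzx.symm]
    have hxL : x ∈ L y z := by rw [e2]; exact (hL x y hxy).1
    rw [← e2, hext y z x hzy.symm hxL hxy]
  rcases S.dichotomy a with h1 | h2
  · by_cases hle : S.W b a ≤ S.W a b
    · refine Or.inl fun x y hxy => ?_
      obtain ⟨g, rfl, rfl⟩ := S.exists_map hab hxy
      rw [← hLmap g a b, ← hLmap g b a]
      congr 1
      have e := S.W_eq_of_le hab.symm hab hle
      have hsub : L a b ⊆ L b a := fun z hz => by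
        rcases Finset.mem_insert.mp hz with rfl | hz
        · exact (hL b z hab.symm).2.1
        obtain ⟨haz, hzf⟩ := hFmem.mp hz
        rcases eq_or_ne b z with rfl | hbz
        · exact (hL b a hab.symm).1
        exact Finset.mem_insert_of_mem (hFmem.mpr ⟨hbz, fun u hu => hzf u (e ▸ hu)⟩)
      exact Finset.eq_of_subset_of_card_le hsub (by rw [(hL a b hab).2.2, (hL b a hab.symm).2.2])
    · refine Or.inr fun x y hxy => ?_
      obtain ⟨g, rfl, rfl⟩ := S.exists_map hab.symm hxy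
      rw [← hLmap g b a, ← S.smul_bl g hab, ← Finset.image_insert]
      congr 1
      obtain ⟨w, hw, hwn⟩ := SetLike.not_le_iff_exists.mp hle
      have hwb : w • b = b := (S.mem_Ker.mp (S.mem_W.mp hw).1).1
      have hwa : w • a = a := (S.mem_W.mp hw).2
      have hsub : L b a ⊆ insert a (S.bl a b) := fun z hz => by
        rcases Finset.mem_insert.mp hz with rfl | hz
        · exact Finset.mem_insert_of_mem (S.self_mem a z hab)
        obtain ⟨hbz, hzf⟩ := hFmem.mp hz
        rcases eq_or_ne a z with rfl | haz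
        · exact Finset.mem_insert_self _ _
        refine Finset.mem_insert_of_mem ?_
        by_contra hzB
        refine hwn (S.mem_W.mpr ⟨h1 w hwa b z hab haz hzB ?_ ?_, hwb⟩)
        · rw [hwb]; exact S.self_mem a b hab
        · rw [hzf w hw]; exact S.self_mem a z haz
      exact Finset.eq_of_subset_of_card_le hsub (by
        rw [(hL b a hab.symm).2.2, Finset.card_insert_of_notMem (S.notMem a b hab), S.size a b hab])
  · refine Or.inr fun x y hxy => ?_
    obtain ⟨g, rfl, rfl⟩ := S.exists_map hab hxy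
    rw [← hLmap g a b, ← S.smul_bl g hab.symm, ← Finset.image_insert]
    congr 1
    obtain ⟨hX, -, huniq⟩ := S.transversal hab h2
    have hsub : insert b (S.bl b a) ⊆ L a b := fun z hz => by
      rcases Finset.mem_insert.mp hz with rfl | hz
      · exact (hL a z hab).2.1
      rcases eq_or_ne z a with rfl | hza
      · exact (hL z b hab).1
      have hzX : z ∈ (S.bl b a).erase a := Finset.mem_erase.mpr ⟨hza, hz⟩
      refine Finset.mem_insert_of_mem (hFmem.mpr ⟨hza.symm, fun u hu => ?_⟩)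
      obtain ⟨huK, hub⟩ := S.mem_W.mp hu
      refine huniq z hzX (u • z) (Finset.mem_erase.mpr ⟨(smul_ne_fixed (S.mem_Ker.mp huK).1 hza.symm).symm, ?_⟩)
        ((S.mem_Ker.mp huK).2 z hza.symm)
      have := (S.smul_mem_iff (g := u) (S.mem_Ker.mp huK).1 hab.symm).mpr hz
      rwa [hub] at this
    exact (Finset.eq_of_subset_of_card_le hsub (by
      rw [(hL a b hab).2.2, Finset.card_insert_of_notMem (S.notMem b a hab.symm), S.size b a hab.symm])).symm

end Sys

end CfsgLib.DoublyPrim
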